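import Groth.Agent.SubtrRef.Refinement
import Groth.Agent.HTopCov.Spec

/-! h coverings of affine schemes are refined by proper finitely presented surjections. -/

set_option autoImplicit false
set_option backward.isDefEq.respectTransparency false
set_option backward.isDefEq.respectTransparency.types false
set_option linter.style.haveILetI false
universe w u

open CategoryTheory CategoryTheory.Limits AlgebraicGeometry IsLocalRing Groth.Agent.EtRep9 Groth.Agent.HTopCov

noncomputable section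

namespace Groth.Agent.SubtrRef

/-- The valuative lifting condition gives subtrusiveness. -/
theorem univSSubtrusive_of_hasValLift {X Y : Scheme.{u}} (f : X ⟶ Y)
    (h : HTop.HasValLift (PreZeroHypercover.singleton.{w} f)) : Subtr.UnivSSubtrusive f := by
  intro X' Y' i₁ i₂ f' hsq y y' hy
  obtain ⟨w', w, hw, e', e⟩ := (hasValLift_iff_specializes f).1 h Y' i₂ y' y hy
  refine ⟨hsq.isoPullback.inv w, hsq.isoPullback.inv w', hw.map hsq.isoPullback.inv.continuous, ?_, ?_⟩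
  · rw [← Scheme.Hom.comp_apply, IsPullback.isoPullback_inv_fst]
    exact e
  · rw [← Scheme.Hom.comp_apply, IsPullback.isoPullback_inv_fst]
    exact e'

/-- Subtrusive morphisms satisfy the valuative lifting condition. -/
theorem hasValLift_of_univSSubtrusive {X Y : Scheme.{u}} (f : X ⟶ Y) (hf : Subtr.UnivSSubtrusive f) :
    HTop.HasValLift (PreZeroHypercover.singleton.{w} f) := by
  refine (hasValLift_iff_specializes f).2 fun Z g z' z hz => ?_
  obtain ⟨x, x', hx, e, e'⟩ := hf _ _ (pullback.fst g f) (IsPullback.of_hasPullback g f) hz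
  exact ⟨x', x, hx, e', e⟩

/-- A V covering of an affine scheme by locally finitely presented morphisms is refined by a proper finitely
presented surjection with a finite affine open covering. -/
theorem exists_proper_refinement {X : Scheme.{u}} [IsAffine X] (E : PreZeroHypercover.{w} X)
    (hlfp : ∀ i, LocallyOfFinitePresentation (E.f i)) (hE : HTop.IsVCover E) :
    ∃ (Y : Scheme.{u}) (g : Y ⟶ X) (n : ℕ) (V : Fin n → Y.Opens), IsProper g ∧ Surjective g ∧
      LocallyOfFinitePresentation g ∧ (∀ j, IsAffineOpen (V j)) ∧ ⨆ j, V j = ⊤ ∧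
      ∀ j, ∃ (i : E.I₀) (h : ((V j : Y.Opens) : Scheme.{u}) ⟶ E.X i), h ≫ E.f i = (V j).ι ≫ g := by
  classical
  obtain ⟨F, hF, hr⟩ := IsVCover.exists_refine hE (𝟙 X)
  haveI := hF.finite_index
  choose i k hk using hr
  haveI := hF.isAffine_obj
  choose W hW hxW using fun (j : F.I₀) (x : E.X (i j)) =>
    (fun ⟨W, h, h', _⟩ => ⟨W, h, h'⟩ : _ → ∃ W : (E.X (i j)).Opens, IsAffineOpen W ∧ x ∈ W)
      (exists_isAffineOpen_mem_and_subset (x := x) (U := ⊤) trivial)
  choose t ht using fun j => (isCompact_range (k j).continuous).elim_finite_subcover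
    (fun x => (W j x : Set (E.X (i j)))) (fun x => (W j x).2) fun x _ => Set.mem_iUnion.2 ⟨x, hxW j x⟩
  let Z : (Σ j : F.I₀, t j) → Scheme.{u} := fun a => (W a.1 a.2.1 : Scheme.{u})
  let eU : (Σ j : F.I₀, t j) ≃ Fin (Nat.card (Σ j : F.I₀, t j)) := Finite.equivFin _
  let Z' : ULift.{u} (Fin (Nat.card (Σ j : F.I₀, t j))) → Scheme.{u} := fun a => Z (eU.symm a.down)
  let ψ : ∀ a, Z' a ⟶ X := fun a => (W _ (eU.symm a.down).2.1).ι ≫ E.f (i (eU.symm a.down).1)
  let f : ∐ Z' ⟶ X := Limits.Sigma.desc ψ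
  haveI : LocallyOfFinitePresentation f :=
    IsZariskiLocalAtSource.sigmaDesc (P := @LocallyOfFinitePresentation) fun a => by
      haveI := hlfp (i (eU.symm a.down).1)
      exact inferInstanceAs (LocallyOfFinitePresentation ((W _ _).ι ≫ E.f _))
  have hf : Subtr.UnivSSubtrusive f := univSSubtrusive_of_hasValLift.{w} f fun V _ _ g => by
    obtain ⟨R, hR, hR', φ, hφ, j, l, hl⟩ := hF.lift V g
    obtain ⟨x, hx, hlx⟩ := Set.mem_iUnion₂.1 (ht j ⟨l (closedPoint R), rfl⟩)
    obtain ⟨m, hm⟩ := exists_lift_of_closedPoint (W j x).ι (l ≫ k j)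
      (by rw [Scheme.Opens.range_ι]; exact hlx)
    have key : ∀ a : Σ j : F.I₀, t j, a = ⟨j, x, hx⟩ → ∃ m' : Spec R ⟶ Z a,
        m' ≫ (W _ a.2.1).ι ≫ E.f (i a.1) = Spec.map φ ≫ g := by
      rintro _ rfl
      refine ⟨m, ?_⟩
      rw [reassoc_of% hm, hk]
      simpa using hl
    obtain ⟨m', hm'⟩ := key _ (eU.symm_apply_apply ⟨j, x, hx⟩)
    refine ⟨R, hR, hR', φ, hφ, PUnit.unit, m' ≫ Limits.Sigma.ι Z' ⟨eU ⟨j, x, hx⟩⟩, ?_⟩
    change (m' ≫ Limits.Sigma.ι Z' ⟨eU ⟨j, x, hx⟩⟩) ≫ f = _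
    rw [Category.assoc, Limits.Sigma.ι_desc]
    exact hm'
  obtain ⟨P, q, hq, hq', hq'', hl⟩ := exists_proper_lifts f (Or.inl inferInstance) hf
  haveI := hq
  have hloc : ∀ z : P, ∃ V : P.Opens, IsAffineOpen V ∧ z ∈ V ∧
      ∃ (i₁ : E.I₀) (h : (V : Scheme.{u}) ⟶ E.X i₁), h ≫ E.f i₁ = V.ι ≫ q := by
    intro z
    obtain ⟨O, l, hz, hlO⟩ := hl z
    obtain ⟨a, w, hw⟩ := ModPairLib.sigma_surj Z' (l ⟨z, hz⟩)
    let j := Limits.Sigma.ι Z' a
    obtain ⟨V, hV, hzV, hVO⟩ := exists_isAffineOpen_mem_and_subset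
      (U := O.ι ''ᵁ (l ⁻¹ᵁ j.opensRange)) (x := z) ⟨⟨z, hz⟩, ⟨w, hw⟩, rfl⟩
    have hVO' : V ≤ O := fun y hy => by
      obtain ⟨y', -, rfl⟩ := hVO hy
      exact y'.2
    let m := P.homOfLE hVO' ≫ l
    have hm : Set.range m ⊆ Set.range j := by
      rintro _ ⟨y, rfl⟩
      obtain ⟨y', hy', hyy⟩ := hVO y.2
      have e : P.homOfLE hVO' y = y' := O.ι.injective (by
        rw [← Scheme.Hom.comp_apply, Scheme.homOfLE_ι]
        exact hyy.symm)
      rw [Scheme.Hom.comp_apply, e]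
      exact hy'
    refine ⟨V, hV, hzV, _, IsOpenImmersion.lift j m hm ≫ (W _ (eU.symm a.down).2.1).ι, ?_⟩
    rw [Category.assoc, show (W _ (eU.symm a.down).2.1).ι ≫ E.f (i (eU.symm a.down).1) = j ≫ f from
      (Limits.Sigma.ι_desc ψ a).symm, IsOpenImmersion.lift_fac_assoc, Category.assoc, hlO, Scheme.homOfLE_ι_assoc]
  choose V hV hzV hfac using hloc
  haveI : CompactSpace P := QuasiCompact.compactSpace_of_compactSpace q
  obtain ⟨s, hs⟩ := isCompact_univ.elim_finite_subcover (fun z : P => (V z : Set P)) (fun z => (V z).2)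
    fun z _ => Set.mem_iUnion.2 ⟨z, hzV z⟩
  refine ⟨P, q, s.card, fun a => V (s.equivFin.symm a).1, hq, hq', hq'', fun a => hV _,
    top_le_iff.1 fun y _ => ?_, fun a => hfac _⟩
  obtain ⟨z, hz, hy⟩ := Set.mem_iUnion₂.1 (hs (Set.mem_univ y))
  exact TopologicalSpace.Opens.mem_iSup.2 ⟨s.equivFin ⟨z, hz⟩, by show y ∈ V (s.equivFin.symm (s.equivFin ⟨z, hz⟩)).1; rwa [Equiv.symm_apply_apply]⟩

end Groth.Agent.SubtrRef
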