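import Groth.Agent.SubtrRef.Refinement
import Groth.Agent.ConsPropLib.CoreProper
import Groth.Agent.ConsPropLib.Cores
import Groth.Agent.MorLib.Descend

/-! Subtrusive morphisms of finite presentation descend to a stage of a limit. -/

set_option autoImplicit false
set_option backward.isDefEq.respectTransparency false
set_option backward.isDefEq.respectTransparency.types false
set_option linter.style.haveILetI false
universe u

open CategoryTheory CategoryTheory.Limits AlgebraicGeometry Groth.Agent.MorLib Groth.Agent.EtRep9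

noncomputable section

namespace Groth.Agent.SubtrRef

/-- A morphism with local lifts over a subtrusive one is subtrusive. -/
theorem univSSubtrusive_of_locLifts {X Y P : Scheme.{u}} {f : X ⟶ Y} {q : P ⟶ Y}
    (hq : Subtr.UnivSSubtrusive q) (h : LocLifts f q) : Subtr.UnivSSubtrusive f := by
  intro X' Y' i₁ i₂ f' hsq y y' hy
  obtain ⟨p, p', hp, rfl, rfl⟩ := hq _ _ (pullback.snd q i₂) (IsPullback.of_hasPullback q i₂).flip hy
  obtain ⟨O, l, hO, hl⟩ := h (pullback.fst q i₂ p)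
  let O' : (pullback q i₂).Opens := pullback.fst q i₂ ⁻¹ᵁ O
  let m : (O' : Scheme.{u}) ⟶ X' := hsq.lift (O'.ι ≫ pullback.snd q i₂) ((pullback.fst q i₂ ∣_ O) ≫ l) (by
    rw [Category.assoc, Category.assoc, hl, morphismRestrict_ι_assoc, pullback.condition])
  have hm : m ≫ f' = O'.ι ≫ pullback.snd q i₂ := hsq.lift_fst _ _ _
  have hmem : p' ∈ O' := hp.mem_open O'.2 hO
  have hs : (⟨p', hmem⟩ : O') ⤳ (⟨p, hO⟩ : O') := (subtype_specializes_iff _ _).2 hp
  refine ⟨m ⟨p, hO⟩, m ⟨p', hmem⟩, hs.map m.continuous, ?_, ?_⟩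
  · rw [← Scheme.Hom.comp_apply, hm]
    rfl
  · rw [← Scheme.Hom.comp_apply, hm]
    rfl

instance isZariskiLocalAtTarget_univSSubtrusive :
    IsZariskiLocalAtTarget (Subtr.UnivSSubtrusive : MorphismProperty Scheme.{u}) := by
  refine universally_isZariskiLocalAtTarget _ fun {X Y} f ι U hU H y y' hy => ?_
  obtain ⟨i, hi⟩ := hU.exists_mem y
  obtain ⟨x, x', hx, hxy, hxy'⟩ := H i (y := ⟨y, hi⟩) (y' := ⟨y', hy.mem_open (U i).2 hi⟩)
    ((subtype_specializes_iff _ _).2 hy)
  exact ⟨x.1, x'.1, hx.map continuous_subtype_val, by simpa using congrArg Subtype.val hxy,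
    by simpa using congrArg Subtype.val hxy'⟩

instance isStableUnderBaseChange_univSSubtrusive :
    (Subtr.UnivSSubtrusive : MorphismProperty Scheme.{u}).IsStableUnderBaseChange :=
  MorphismProperty.universally_isStableUnderBaseChange _

variable {I : Type u} [SmallCategory I] [IsCofiltered I] (T : I ⥤ Scheme.{u}) (c : Cone T) (hc : IsLimit c)
  [∀ (i j : I) (f : i ⟶ j), IsAffineHom (T.map f)] [∀ i, CompactSpace (T.obj i)]
  [∀ i, QuasiSeparatedSpace (T.obj i)]

include hc in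
/-- Models of a proper surjective morphism of finite presentation. -/
theorem exists_proper_model {S' : Scheme.{u}} (g : S' ⟶ c.pt) [IsProper g] [Surjective g]
    [LocallyOfFinitePresentation g] :
    ∃ (i : I) (S₀ : Scheme.{u}) (g₀ : S₀ ⟶ T.obj i) (qS : S' ⟶ S₀),
      IsPullback qS g g₀ (c.π.app i) ∧ IsProper g₀ ∧ Surjective g₀ ∧ LocallyOfFinitePresentation g₀ := by
  haveI : ∀ {i j : I} (f : i ⟶ j), IsAffineHom (T.map f) := fun {i j} f => inferInstance
  obtain ⟨i₀, G, f₀, q₀, hlfp, hqc, hqs, hsq⟩ := Groth.Agent.S0591.result T c hc S' g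
  haveI := hlfp; haveI := hqc; haveI := hqs
  obtain ⟨i₁, φ₁, h₁⟩ := Desc.descend T c hc i₀ (P := @IsProper) (Q := @LocallyOfFinitePresentation)
    ConsPropLib.core_isProper f₀ inferInstance (Desc.of_two @IsProper hsq (IsPullback.of_hasPullback _ _) inferInstance)
  let m₁ := (ConsPropLib.IsModel.mk (c := c) (f := g) hlfp hqc hqs hsq).pushed φ₁
  let f₁ := pullback.snd f₀ (T.map φ₁)
  haveI : IsProper f₁ := h₁
  haveI : LocallyOfFinitePresentation f₁ := inferInstance
  obtain ⟨i₂, φ₂, h₂⟩ := Desc.descend T c hc i₁ (P := @Surjective) (Q := @LocallyOfFinitePresentation)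
    ConsPropLib.core_surjective f₁ inferInstance
    (Desc.of_two @Surjective m₁.sq (IsPullback.of_hasPullback _ _) inferInstance)
  exact ⟨i₂, _, pullback.snd f₁ (T.map φ₂), _, (m₁.pushed φ₂).sq,
    MorphismProperty.pullback_snd _ _ inferInstance, h₂, inferInstance⟩

include hc in
omit [∀ i, QuasiSeparatedSpace (T.obj i)] in
/-- Local lifts on the limit come from a stage. -/
theorem exists_locLifts_stage {X Y : Scheme.{u}} (f : X ⟶ Y) [LocallyOfFinitePresentation f]
    (J : ∀ k, T.obj k ⟶ Y) (hJ : ∀ {l k : I} (φ : l ⟶ k), T.map φ ≫ J k = J l) (q : c.pt ⟶ Y)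
    (hjl : ∀ k, c.π.app k ≫ J k = q) [CompactSpace c.pt] (h : LocLifts f q) : ∃ n, LocLifts f (J n) := by
  classical
  haveI : ∀ {i j : I} (f : i ⟶ j), IsAffineHom (T.map f) := fun {i j} f => inferInstance
  have hnb : ∀ z : c.pt, ∃ (k : I) (V : (T.obj k).Opens) (l : (V : Scheme.{u}) ⟶ X), c.π.app k z ∈ V ∧
      l ≫ f = V.ι ≫ J k := by
    intro z
    obtain ⟨O, m, hO, hm⟩ := h z
    obtain ⟨_, ⟨_, ⟨k, V, hV, rfl⟩, rfl⟩, hzV, hVO⟩ :=
      (isBasis_preimage_isAffineOpen T c hc).exists_subset_of_mem_open (show z ∈ O from hO) O.2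
    haveI : IsAffine (V : Scheme.{u}) := hV
    have hX : IsPullback (c.π.app k ∣_ V) (c.π.app k ⁻¹ᵁ V).ι V.ι (c.π.app k) :=
      isPullback_morphismRestrict (c.π.app k) V
    let a : (c.π.app k ⁻¹ᵁ V : Scheme.{u}) ⟶ X := c.pt.homOfLE (SetLike.coe_subset_coe.1 hVO) ≫ m
    have ha : a ≫ f = (c.π.app k ⁻¹ᵁ V).ι ≫ q := by
      simp only [a, Category.assoc]
      rw [hm, Scheme.homOfLE_ι_assoc]
    let T' := BC.diag T V.ι
    haveI : ∀ {a b : Over k} (φ : a ⟶ b), IsAffineHom (T'.map φ) := fun φ => BC.isAffineHom_map T V.ι φ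
    haveI : ∀ b, CompactSpace (T'.obj b) := fun b => BC.compactSpace_obj T V.ι b
    haveI : ∀ b, QuasiSeparatedSpace (T'.obj b) := fun b => BC.quasiSeparatedSpace_obj T V.ι b
    let t : T' ⟶ (Functor.const _).obj Y :=
    { app := fun b => pullback.snd V.ι (T.map b.hom) ≫ J b.left
      naturality := fun b b' φ => by
        refine Eq.trans ?_ (Category.comp_id _).symm
        show T'.map φ ≫ pullback.snd V.ι (T.map b'.hom) ≫ J b'.left = _
        rw [reassoc_of% (BC.map_snd T V.ι φ), hJ] }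
    obtain ⟨b, g, -, hg⟩ := Scheme.exists_π_app_comp_eq_of_locallyOfFinitePresentation T' t f
      (BC.cone T V.ι hX) (BC.isLimitCone T V.ι hX hc) a (by
        ext b : 2
        show (BC.cone T V.ι hX).π.app b ≫ pullback.snd V.ι (T.map b.hom) ≫ J b.left = a ≫ f
        rw [show (BC.cone T V.ι hX).π.app b = BC.proj T V.ι hX b from rfl, BC.proj_snd_assoc, hjl, ha])
    let w : pullback V.ι (T.map b.hom) ⟶ T.obj b.left := pullback.snd _ _
    refine ⟨b.left, w.opensRange, w.isoOpensRange.inv ≫ g, ⟨BC.proj T V.ι hX b ⟨z, hzV⟩, ?_⟩, ?_⟩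
    · show w _ = _
      rw [← Scheme.Hom.comp_apply, BC.proj_snd]
      rfl
    · rw [Category.assoc, hg, Iso.inv_comp_eq, Scheme.Hom.isoOpensRange_hom_ι_assoc]
  choose k V l hzV hl using hnb
  obtain ⟨t, ht⟩ := isCompact_univ.elim_finite_subcover
    (fun z : c.pt => ((c.π.app (k z) ⁻¹ᵁ V z : c.pt.Opens) : Set c.pt))
    (fun z => (c.π.app (k z) ⁻¹ᵁ V z).2) fun z _ => Set.mem_iUnion.2 ⟨z, hzV z⟩
  haveI : Nonempty I := IsCofiltered.nonempty
  obtain ⟨m, hm⟩ := IsCofiltered.inf_objs_exists (t.image k)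
  let φ : ∀ z ∈ t, m ⟶ k z := fun z hz => (hm (Finset.mem_image_of_mem k hz)).some
  let W : (T.obj m).Opens := ⨆ z : t, T.map (φ z.1 z.2) ⁻¹ᵁ V z.1
  have hW : c.π.app m ⁻¹ᵁ W = ⊤ := top_le_iff.1 fun y _ => by
    obtain ⟨z, hz, hy⟩ := Set.mem_iUnion₂.1 (ht (Set.mem_univ y))
    show c.π.app m y ∈ W
    refine TopologicalSpace.Opens.mem_iSup.2 ⟨⟨z, hz⟩, ?_⟩
    show T.map (φ z hz) (c.π.app m y) ∈ V z
    rw [← Scheme.Hom.comp_apply, c.w]
    exact hy
  obtain ⟨n, ψ, hn⟩ := exists_map_eq_top T c hc W hW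
  refine ⟨n, fun y => ?_⟩
  obtain ⟨z, hz⟩ := TopologicalSpace.Opens.mem_iSup.1 (hn.ge (show y ∈ (⊤ : (T.obj n).Opens) from trivial) :
    T.map ψ y ∈ W)
  let χ := ψ ≫ φ z.1 z.2
  refine ⟨T.map χ ⁻¹ᵁ V z.1, (T.map χ ∣_ V z.1) ≫ l z.1, ?_, ?_⟩
  · show T.map χ y ∈ V z.1
    rw [T.map_comp, Scheme.Hom.comp_apply]
    exact hz
  · rw [Category.assoc, hl, morphismRestrict_ι_assoc, hJ]

attribute [local instance] CategoryTheory.isConnected_of_hasTerminal in
/-- The affine case of descent. -/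
theorem core_univSSubtrusive :
    Desc.Core Subtr.UnivSSubtrusive (@LocallyOfFinitePresentation : MorphismProperty Scheme.{u}) := by
  intro I _ _ D c hc hD i hi X₀ f₀ _ _ hQ h
  haveI : ∀ {i j : I} (f : i ⟶ j), IsAffineHom (D.map f) := fun {i j} f => hD i j f
  haveI := hi
  haveI : LocallyOfFinitePresentation f₀ := hQ
  let T : Over i ⥤ Scheme.{u} := Over.forget i ⋙ D
  let cT : Cone T := c.whisker (Over.forget i)
  have hcT : IsLimit cT := (Functor.Initial.isLimitWhiskerEquiv (Over.forget i) c).symm hc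
  haveI : ∀ (a b : Over i) (φ : a ⟶ b), IsAffineHom (T.map φ) := fun a b φ => hD _ _ φ.left
  haveI : ∀ {a b : Over i} (φ : a ⟶ b), IsAffineHom (T.map φ) := fun φ => hD _ _ φ.left
  haveI : ∀ a : Over i, IsAffine (T.obj a) := fun a =>
    haveI : IsAffineHom (D.map a.hom) := inferInstance
    isAffine_of_isAffineHom (D.map a.hom)
  haveI : IsAffine cT.pt := Scheme.isAffine_of_isLimit _ hcT
  let f : pullback f₀ (c.π.app i) ⟶ cT.pt := pullback.snd f₀ (c.π.app i)
  haveI : LocallyOfFinitePresentation f := MorphismProperty.pullback_snd _ _ inferInstance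
  obtain ⟨P, q, hq, hq', hq'', hl⟩ := exists_proper_lifts f (Or.inl inferInstance) h
  haveI := hq; haveI := hq'; haveI := hq''
  obtain ⟨a, P₀, q₀, qP, sq, hp, hsurj, hlfp⟩ := exists_proper_model T cT hcT q
  haveI := hp; haveI := hsurj; haveI := hlfp
  haveI : CompactSpace P₀ := QuasiCompact.compactSpace_of_compactSpace q₀
  haveI : QuasiSeparatedSpace P₀ := quasiSeparatedSpace_of_quasiSeparated q₀
  let B := BC.diag T q₀
  haveI : ∀ (b b' : Over a) (φ : b ⟶ b'), IsAffineHom (B.map φ) := fun _ _ φ => BC.isAffineHom_map T q₀ φ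
  haveI : ∀ b, CompactSpace (B.obj b) := fun b => BC.compactSpace_obj T q₀ b
  haveI : CompactSpace (BC.cone T q₀ sq).pt := QuasiCompact.compactSpace_of_compactSpace q
  let J : ∀ b : Over a, B.obj b ⟶ D.obj i := fun b => pullback.snd q₀ (T.map b.hom) ≫ D.map b.left.hom
  obtain ⟨n, hn⟩ := exists_locLifts_stage B (BC.cone T q₀ sq) (BC.isLimitCone T q₀ sq hcT) f₀ J
    (fun {b b'} φ => by
      show B.map φ ≫ pullback.snd q₀ (T.map b'.hom) ≫ D.map b'.left.hom = _
      rw [reassoc_of% (BC.map_snd T q₀ φ)]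
      show pullback.snd q₀ (T.map b.hom) ≫ D.map φ.left.left ≫ D.map b'.left.hom = _
      rw [← D.map_comp, Over.w])
    (q ≫ c.π.app i) (fun b => by
      show BC.proj T q₀ sq b ≫ pullback.snd q₀ (T.map b.hom) ≫ D.map b.left.hom = _
      rw [BC.proj_snd_assoc]
      exact congrArg (q ≫ ·) (c.w b.left.hom))
    (fun z => by
      obtain ⟨O, l, hz, hl'⟩ := hl z
      exact ⟨O, l ≫ pullback.fst f₀ _, hz, by
        rw [Category.assoc, pullback.condition, ← Category.assoc, hl', Category.assoc]⟩)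
  refine ⟨n.left.left, n.left.hom, ?_⟩
  let qn : B.obj n ⟶ D.obj n.left.left := pullback.snd q₀ (T.map n.hom)
  haveI : IsProper qn := MorphismProperty.pullback_snd _ _ inferInstance
  haveI : Surjective qn := MorphismProperty.pullback_snd _ _ inferInstance
  refine univSSubtrusive_of_locLifts (univSSubtrusive_of_closed qn) fun z => ?_
  obtain ⟨O, l, hz, hl'⟩ := hn z
  exact ⟨O, pullback.lift l (O.ι ≫ qn) (by rw [hl', Category.assoc]), hz, pullback.lift_snd _ _ _⟩

end Groth.Agent.SubtrRef
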