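import Groth.Agent.DescLib.SubtrSubm
import Groth.Agent.HTopCov.DVR
import Groth.Agent.AlgSpVal.DvrThrough

/-! Universal submersiveness over a Noetherian base via surjective extensions of discrete valuation rings. -/

set_option autoImplicit false
set_option backward.isDefEq.respectTransparency false
set_option backward.isDefEq.respectTransparency.types false
set_option linter.style.haveILetI false
universe u

open CategoryTheory CategoryTheory.Limits AlgebraicGeometry IsLocalRing Groth.Agent.DescLib

noncomputable section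

namespace Groth.Agent.SubtrRef

/-- The lifting condition by discrete valuation rings. -/
def DvrLifts {X S : Scheme.{u}} (f : X ⟶ S) : Prop :=
  ∀ (R : Type u) [CommRing R] [IsDomain R] [IsDiscreteValuationRing R] (g : Spec (CommRingCat.of R) ⟶ S),
    ∃ (R' : Type u) (_ : CommRing R') (_ : IsDomain R') (_ : IsDiscreteValuationRing R')
      (φ : Spec (CommRingCat.of R') ⟶ Spec (CommRingCat.of R)) (h : Spec (CommRingCat.of R') ⟶ X),
      Surjective φ ∧ h ≫ f = φ ≫ g

theorem eq_bot_or_closedPoint {R : Type u} [CommRing R] [IsDomain R] [IsDiscreteValuationRing R]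
    (z : PrimeSpectrum R) : z = ⊥ ∨ z = closedPoint R := by
  rcases eq_or_ne z.asIdeal ⊥ with h | h
  · exact Or.inl (PrimeSpectrum.ext h)
  · exact Or.inr (PrimeSpectrum.ext (IsLocalRing.eq_maximalIdeal (z.isPrime.isMaximal h)))

theorem exists_dvr_points {X S : Scheme.{u}} (f : X ⟶ S) (h : DvrLifts f) (R : Type u) [CommRing R] [IsDomain R]
    [IsDiscreteValuationRing R] (g : Spec (CommRingCat.of R) ⟶ S) :
    ∃ x x' : ↑(pullback f g), x' ⤳ x ∧ pullback.snd f g x = (closedPoint R : Spec (CommRingCat.of R)) ∧
      pullback.snd f g x' = ((⊥ : PrimeSpectrum R) : Spec (CommRingCat.of R)) := by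
  obtain ⟨R', _, _, _, φ, l, hφ, hl⟩ := h R g
  haveI := hφ
  let m := pullback.lift l φ hl
  let b : Spec (CommRingCat.of R') := (⊥ : PrimeSpectrum R')
  let a : Spec (CommRingCat.of R') := closedPoint R'
  have hbot : ∀ z : Spec (CommRingCat.of R'), b ⤳ z := fun z => (PrimeSpectrum.le_iff_specializes _ _).1 bot_le
  refine ⟨m a, m b, (hbot a).map m.continuous, ?_, ?_⟩
  · rw [← Scheme.Hom.comp_apply, pullback.lift_snd]
    obtain ⟨a', ha'⟩ := φ.surjective (closedPoint R : Spec (CommRingCat.of R))
    have h1 := (IsLocalRing.specializes_closedPoint (show PrimeSpectrum R' from a')).map φ.continuous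
    rw [ha'] at h1
    exact PrimeSpectrum.ext ((inferInstance : (maximalIdeal R).IsMaximal).eq_of_le
      (Ideal.IsPrime.ne_top (PrimeSpectrum.isPrime _)) ((PrimeSpectrum.le_iff_specializes _ _).2 h1)).symm
  · rw [← Scheme.Hom.comp_apply, pullback.lift_snd]
    obtain ⟨b', hb'⟩ := φ.surjective ((⊥ : PrimeSpectrum R) : Spec (CommRingCat.of R))
    have h1 := (hbot b').map φ.continuous
    rw [hb'] at h1
    exact PrimeSpectrum.ext (le_bot_iff.1 ((PrimeSpectrum.le_iff_specializes _ _).2 h1))

/-- Surjective lifts of discrete valuation rings give universal submersiveness. -/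
theorem univSubmersive_of_dvrLifts {X Y : Scheme.{u}} [IsLocallyNoetherian Y] (f : X ⟶ Y) [QuasiCompact f]
    (h : DvrLifts f) : SGA1.UnivSubmersive f := by
  refine univSubmersive_of_univSSubtrusive f (univSSubtrusive_of_fg f fun U hU C _ _ _ _ p => ?_)
  haveI : IsNoetherianRing Γ(Y, U) := IsLocallyNoetherian.component_noetherian ⟨U, hU⟩
  haveI : IsNoetherianRing C := Algebra.FiniteType.isNoetherianRing Γ(Y, U) C
  let t := Spec.map (CommRingCat.ofHom (algebraMap Γ(Y, U) C)) ≫ hU.fromSpec
  change ∃ x x' : ↑(pullback f t), _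
  suffices key : ∀ (D : Type u) [CommRing D] [IsDomain D] [IsDiscreteValuationRing D] (ψ : C →+* D),
      Function.Injective ψ → (p : PrimeSpectrum C).asIdeal = (maximalIdeal D).comap ψ →
      ∃ x x' : ↑(pullback f t), x' ⤳ x ∧ pullback.snd f t x = p ∧ pullback.snd f t x' = etaPt C by
    by_cases hp : (p : PrimeSpectrum C).asIdeal = ⊥
    · let ψ : C →+* PowerSeries (FractionRing C) := PowerSeries.C.comp (algebraMap C (FractionRing C))
      refine key (PowerSeries (FractionRing C)) ψ
        (PowerSeries.C_injective.comp (IsFractionRing.injective C (FractionRing C))) (hp.trans ?_)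
      refine (Ideal.ext fun a => ?_).symm
      rw [Ideal.mem_comap, PowerSeries.maximalIdeal_eq_span_X, Ideal.mem_span_singleton, PowerSeries.X_dvd_iff,
        Ideal.mem_bot]
      show PowerSeries.constantCoeff (PowerSeries.C (algebraMap C (FractionRing C) a)) = 0 ↔ a = 0
      rw [PowerSeries.constantCoeff_C]
      exact IsFractionRing.to_map_eq_zero_iff
    · obtain ⟨D, hD, hDp⟩ := Groth.Agent.Rat20Lib.exists_dvr_centre (K := FractionRing C) (p : PrimeSpectrum C).asIdeal hp
      refine key D ((algebraMap C (FractionRing C)).codRestrict D fun a => (hDp a).1)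
        (fun a b hab => IsFractionRing.injective C (FractionRing C) (congrArg Subtype.val hab)) ?_
      refine Ideal.ext fun a => ?_
      rw [Ideal.mem_comap, IsLocalRing.mem_maximalIdeal, mem_nonunits_iff, ← (hDp a).2,
        ValuationSubring.mem_nonunits_iff_exists_mem_maximalIdeal]
      exact ⟨fun ⟨_, h⟩ => (IsLocalRing.mem_maximalIdeal _).1 h,
        fun h => ⟨(hDp a).1, (IsLocalRing.mem_maximalIdeal _).2 h⟩⟩
  intro D _ _ _ ψ hψ hp
  let d := Spec.map (CommRingCat.ofHom ψ)
  obtain ⟨x, x', hx, e, e'⟩ := exists_dvr_points f h D (d ≫ t)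
  let m : pullback f (d ≫ t) ⟶ pullback f t := pullback.lift (pullback.fst _ _) (pullback.snd _ _ ≫ d)
    (by rw [Category.assoc, pullback.condition])
  refine ⟨m x, m x', hx.map m.continuous, ?_, ?_⟩
  · rw [← Scheme.Hom.comp_apply, pullback.lift_snd, Scheme.Hom.comp_apply, e]
    exact PrimeSpectrum.ext hp.symm
  · rw [← Scheme.Hom.comp_apply, pullback.lift_snd, Scheme.Hom.comp_apply, e']
    exact PrimeSpectrum.ext ((RingHom.injective_iff_ker_eq_bot ψ).1 hψ)

/-- Universally submersive morphisms of finite type satisfy the lifting condition. -/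
theorem dvrLifts_of_univSubmersive {X S : Scheme.{u}} (f : X ⟶ S) [LocallyOfFiniteType f]
    (h : SGA1.UnivSubmersive f) : DvrLifts f := by
  intro R _ _ _ g
  haveI : IsDomain (CommRingCat.of R) := inferInstanceAs (IsDomain R)
  haveI : IsDiscreteValuationRing (CommRingCat.of R) := inferInstanceAs (IsDiscreteValuationRing R)
  obtain ⟨q, p, hqp, hq, hp⟩ := HTopCov.exists_specializes_of_isQuotientMap (pullback.fst g f)
    (h _ _ _ (IsPullback.of_hasPullback g f))
  haveI : LocallyOfFiniteType (pullback.fst g f) := MorphismProperty.pullback_fst _ _ inferInstance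
  haveI : IsLocallyNoetherian (pullback g f) := LocallyOfFiniteType.isLocallyNoetherian (pullback.fst g f)
  obtain ⟨A, _, _, _, i, k, hi, hk, hki⟩ := AlgSpVal.exists_dvr_path_field (𝟙 (pullback g f)) q p hqp
  let φ : Spec (CommRingCat.of A) ⟶ Spec (CommRingCat.of R) := i ≫ pullback.fst g f
  refine ⟨A, inferInstance, inferInstance, inferInstance, φ, i ≫ pullback.snd g f, ⟨fun z => ?_⟩,
    by simp [φ, pullback.condition]⟩
  rcases eq_bot_or_closedPoint (show PrimeSpectrum R from z) with e | e
  · let w : Spec (CommRingCat.of A) := Spec.map (CommRingCat.ofHom (algebraMap A (FractionRing A))) (closedPoint _)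
    refine ⟨w, ?_⟩
    rw [← Scheme.Hom.comp_apply, ← Category.assoc, ← hki, Category.comp_id, Scheme.Hom.comp_apply, hk, hq]
    exact e.symm
  · exact ⟨closedPoint A, by rw [Scheme.Hom.comp_apply, hi, hp]; exact e.symm⟩

end Groth.Agent.SubtrRef
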