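import Groth.Agent.SubtrRef.LiftModel
import Groth.Agent.EtRep9.SubtrusiveEff

/-! Refinement of a subtrusive morphism by an open cover followed by a proper surjective morphism. -/

set_option autoImplicit false
set_option backward.isDefEq.respectTransparency false
set_option backward.isDefEq.respectTransparency.types false
set_option linter.style.haveILetI false
universe u

open CategoryTheory CategoryTheory.Limits AlgebraicGeometry Groth.Agent.MorLib Groth.Agent.EtRep9

noncomputable section

namespace Groth.Agent.SubtrRef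

variable {X Y : Scheme.{u}} (f : X ⟶ Y)

/-- A proper surjection with local lifts, over an affine or noetherian base. -/
theorem exists_proper_lifts (hY : IsAffine Y ∨ IsNoetherian Y) [LocallyOfFinitePresentation f]
    (hf : Subtr.UnivSSubtrusive f) :
    ∃ (P : Scheme.{u}) (q : P ⟶ Y), IsProper q ∧ Surjective q ∧ LocallyOfFinitePresentation q ∧
      LocLifts f q := by
  rcases hY with hY | hY
  · obtain ⟨P, q, hq, hq', hq'', hl⟩ := exists_proper_lifts_affine (f ≫ Y.isoSpec.hom)
      (univSSubtrusive_comp hf (univSSubtrusive_of_closed Y.isoSpec.hom))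
    haveI := hq; haveI := hq'; haveI := hq''
    refine ⟨P, q ≫ Y.isoSpec.inv, inferInstance, inferInstance, inferInstance, fun z => ?_⟩
    obtain ⟨O, l, hz, h⟩ := hl z
    exact ⟨O, l, hz, by rw [← cancel_mono Y.isoSpec.hom]; simpa using h⟩
  · exact exists_proper_lifts_noetherian hf

/-- The refinement, with all its properties. -/
theorem exists_refinement (hY : IsAffine Y ∨ IsNoetherian Y) [LocallyOfFinitePresentation f]
    (hf : Subtr.UnivSSubtrusive f) :
    ∃ (X' Y' : Scheme.{u}) (h : X' ⟶ X) (p : X' ⟶ Y') (q : Y' ⟶ Y), h ≫ f = p ≫ q ∧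
      (Flat p ∧ Surjective p ∧ LocallyOfFinitePresentation p ∧ QuasiCompact p ∧ QuasiSeparated p) ∧
      (∀ x : X', ∃ U : X'.Opens, x ∈ U ∧ IsOpenImmersion (U.ι ≫ p)) ∧
      (IsProper q ∧ Surjective q ∧ LocallyOfFinitePresentation q) := by
  classical
  obtain ⟨P, q, hq, hq', hq'', hl⟩ := exists_proper_lifts f hY hf
  haveI := hq
  choose O l hz hlf using hl
  choose U hU hzU hUO using fun z : P =>
    exists_isAffineOpen_mem_and_subset (U := O z) (hz z)
  haveI : CompactSpace Y := by rcases hY with hY | hY <;> infer_instance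
  haveI : QuasiSeparatedSpace Y := by rcases hY with hY | hY <;> infer_instance
  haveI : CompactSpace P := QuasiCompact.compactSpace_of_compactSpace q
  haveI : QuasiSeparatedSpace P := quasiSeparatedSpace_of_quasiSeparated q
  obtain ⟨t, ht⟩ := isCompact_univ.elim_finite_subcover (fun z : P => (U z : Set P)) (fun z => (U z).2)
    fun z _ => Set.mem_iUnion.2 ⟨z, hzU z⟩
  haveI : ∀ z : t, IsAffine (U z.1 : Scheme.{u}) := fun z => hU z.1
  let h : (∐ fun z : t => (U z.1 : Scheme.{u})) ⟶ X :=
    Limits.Sigma.desc fun z : t => P.homOfLE (hUO z.1) ≫ l z.1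
  let p : (∐ fun z : t => (U z.1 : Scheme.{u})) ⟶ P := Limits.Sigma.desc fun z : t => (U z.1).ι
  have he : h ≫ f = p ≫ q := Limits.Sigma.hom_ext _ _ fun z => by
    simp only [h, p, Limits.Sigma.ι_desc_assoc, Category.assoc, hlf]
    rw [Scheme.homOfLE_ι_assoc]
  refine ⟨_, P, h, p, q, he, ⟨IsZariskiLocalAtSource.sigmaDesc (P := @Flat) fun _ => inferInstance, ⟨fun y => ?_⟩,
    IsZariskiLocalAtSource.sigmaDesc (P := @LocallyOfFinitePresentation) fun _ => inferInstance,
    QuasiCompact.of_comp p (terminal.from P), QuasiSeparated.of_comp p (terminal.from P)⟩, fun x => ?_, hq, hq', hq''⟩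
  · obtain ⟨z, hz', hy⟩ := Set.mem_iUnion₂.1 (ht (Set.mem_univ y))
    exact ⟨Limits.Sigma.ι (fun z : t => (U z.1 : Scheme.{u})) ⟨z, hz'⟩ ⟨y, hy⟩, by
      rw [← Scheme.Hom.comp_apply, Limits.Sigma.ι_desc]; rfl⟩
  · obtain ⟨z, w, rfl⟩ := ModPairLib.sigma_surj (fun z : t => (U z.1 : Scheme.{u})) x
    let j := Limits.Sigma.ι (fun z : t => (U z.1 : Scheme.{u})) z
    refine ⟨j.opensRange, ⟨w, rfl⟩, ?_⟩
    rw [← Scheme.Hom.isoOpensRange_inv_comp j, Category.assoc, Limits.Sigma.ι_desc]
    infer_instance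

end Groth.Agent.SubtrRef
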