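import Groth.Agent.SubtrRef.FlatModel
import Groth.Agent.SubtrRef.Stage
import Groth.Agent.MorLib.DescendCI
import Groth.Agent.LimSm.Flat

/-! A universally open morphism is flattened, up to nilimmersion, by a proper surjection of finite presentation. -/

set_option autoImplicit false
set_option backward.isDefEq.respectTransparency false
set_option backward.isDefEq.respectTransparency.types false
set_option linter.style.haveILetI false
universe u

open CategoryTheory CategoryTheory.Limits AlgebraicGeometry IsLocalRing Topology Groth.Agent.MorLib Groth.Agent.EtRep9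

noncomputable section

namespace Groth.Agent.SubtrRef

/-- Flattening is stable under base change. -/
theorem Flattened.of_isPullback {W W' T T' : Scheme.{u}} {v : W' ⟶ W} {g' : W' ⟶ T'} {g : W ⟶ T} {u : T' ⟶ T}
    (sq : IsPullback v g' g u) (h : Flattened g) : Flattened g' := by
  obtain ⟨Z, r, hr, hfp, hs, hflat⟩ := h
  have h0 := IsPullback.of_hasPullback r v
  refine ⟨pullback r v, pullback.snd r v, inferInstance, inferInstance,
    MorphismProperty.pullback_snd _ _ hs, ?_⟩
  exact MorphismProperty.of_isPullback (h0.paste_vert sq) hflat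

/-- Over a proper model through a given point, a universally open morphism is flattened. -/
theorem exists_flattened_model {X S : Scheme.{u}} (f : X ⟶ S) [UniversallyOpen f] [LocallyOfFinitePresentation f]
    [QuasiCompact f] [QuasiSeparatedSpace S] [CompactSpace S] (x : S) :
    ∃ (P : Scheme.{u}) (q : P ⟶ S), (IsProper q ∧ ∃ (Q : Scheme.{u}) (fQ : Q ⟶ S) (i : P ⟶ Q),
        IsProper fQ ∧ LocallyOfFinitePresentation fQ ∧ IsClosedImmersion i ∧ i ≫ fQ = q) ∧
      x ∈ Set.range q ∧ Flattened (pullback.snd f q) := by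
  classical
  let K := S.residueField x
  let ξ : Spec (CommRingCat.of K) ⟶ S := S.fromSpecResidueField x
  have hξx : ξ (closedPoint K) = x := Scheme.fromSpecResidueField_apply _ _
  let 𝒰 := S.affineCover.finiteSubcover
  let κ := {j : 𝒰.I₀ // x ∈ Set.range (𝒰.f j)}
  haveI : Finite κ := Subtype.finite
  haveI : ∀ j : 𝒰.I₀, IsAffine (𝒰.X j) := fun j => by dsimp [𝒰]; infer_instance
  let R : κ → CommRingCat.{u} := fun j => Γ(𝒰.X j.1, ⊤)
  let k : ∀ j : κ, Spec (R j) ⟶ S := fun j => (𝒰.X j.1).isoSpec.inv ≫ 𝒰.f j.1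
  have hkr : ∀ (j : κ), ∀ y ∈ Set.range (𝒰.f j.1), y ∈ Set.range (k j) := fun j y ⟨w, hw⟩ =>
    ⟨(𝒰.X j.1).isoSpec.hom w, by rw [← Scheme.Hom.comp_apply, Iso.hom_inv_id_assoc]; exact hw⟩
  have hr : ∀ j : κ, Set.range ξ ⊆ Set.range (k j) := fun j => by
    rintro _ ⟨z, rfl⟩
    rw [show z = closedPoint K from Subsingleton.elim _ _, hξx]
    exact hkr j x j.2
  letI : ∀ j : κ, Algebra (R j) K := fun j =>
    (Spec.preimage (IsOpenImmersion.lift (k j) ξ (hr j))).hom.toAlgebra
  have hξ : ∀ j, Spec.map (CommRingCat.ofHom (algebraMap (R j) K)) ≫ k j = ξ := fun j => by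
    show Spec.map (Spec.preimage (IsOpenImmersion.lift (k j) ξ (hr j))) ≫ k j = ξ
    rw [Spec.map_preimage, IsOpenImmersion.lift_fac]
  -- affine charts of the source over each chart of the base
  haveI : ∀ j : κ, CompactSpace ↥(pullback f (k j)) := fun j =>
    QuasiCompact.compactSpace_of_compactSpace (pullback.snd f (k j))
  let 𝒱 := fun j : κ => (pullback f (k j)).affineCover.finiteSubcover
  haveI : ∀ j, ∀ i : (𝒱 j).I₀, IsAffine ((𝒱 j).X i) := fun j i => by dsimp [𝒱]; infer_instance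
  let B : ∀ j, (𝒱 j).I₀ → CommRingCat.{u} := fun j i => Γ((𝒱 j).X i, ⊤)
  let c : ∀ j i, Spec (B j i) ⟶ pullback f (k j) := fun j i => ((𝒱 j).X i).isoSpec.inv ≫ (𝒱 j).f i
  letI : ∀ j i, Algebra (R j) (B j i) := fun j i => (Spec.preimage (c j i ≫ pullback.snd f (k j))).hom.toAlgebra
  have hB : ∀ j i, Spec.map (CommRingCat.ofHom (algebraMap (R j) (B j i))) = c j i ≫ pullback.snd f (k j) :=
    fun j i => Spec.map_preimage _
  haveI : ∀ j i, Algebra.FinitePresentation (R j) (B j i) := fun j i =>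
    RingHom.finitePresentation_algebraMap.1 ((HasRingHomProperty.Spec_iff (P := @LocallyOfFinitePresentation)).1
      (show LocallyOfFinitePresentation (Spec.map (CommRingCat.ofHom (algebraMap (R j) (B j i)))) by
        rw [hB]; infer_instance))
  choose 𝓕 h𝓕 hcov using fun j : κ => exists_finite_cover (R j) K
    {s : Finset K | ∀ i, FlatClosure.Good (B j i) (Algebra.adjoin (R j : Type u) (s : Set K))} fun V hV => by
      obtain ⟨s, hs, hG⟩ := FlatClosure.exists_finset_all (fun i => (B j i : Type u)) V hV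
      exact ⟨s, hG, hs⟩
  obtain ⟨P, q, hq, η, hη, hηqc, hηinj, hloc⟩ := exists_val_model'' ξ R k hξ (fun y hy => by
    rw [hξx] at hy
    obtain ⟨j, w, hw⟩ := 𝒰.exists_eq y
    exact ⟨⟨j, hy.mem_open (𝒰.f j).isOpenEmbedding.isOpen_range ⟨w, hw⟩⟩, hkr _ y ⟨w, hw⟩⟩) 𝓕 hcov
  haveI := hηqc
  refine ⟨P, q, hq, ⟨η (closedPoint K), by rw [← Scheme.Hom.comp_apply, hη, hξx]⟩, ?_⟩
  refine flattened_of_good (K := K) f q η fun z => ?_
  obtain ⟨j, s, O, hs, hO, m, hm, hmη⟩ := hloc (pullback.snd f q z)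
  obtain ⟨W, hW, hzW, hWO⟩ := exists_isAffineOpen_mem_and_subset (U := O) hO
  obtain ⟨A, a, hle, ha, har, haq, haη⟩ :=
    exists_chart_subalgebra q η hηinj (k j) s O m hm hmη W hW hWO ⟨_, hzW⟩
  have hza : pullback.snd f q z ∈ Set.range a := har.ge hzW
  obtain ⟨y, hy⟩ : pullback.fst f q z ∈ Set.range (pullback.fst f (k j)) := by
    rw [Scheme.Pullback.range_fst]
    show f (pullback.fst f q z) ∈ Set.range (k j)
    obtain ⟨t, ht⟩ := hza
    rw [← Scheme.Hom.comp_apply, pullback.condition, Scheme.Hom.comp_apply, ← ht, ← Scheme.Hom.comp_apply, haq]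
    exact ⟨_, rfl⟩
  obtain ⟨i, w, hw⟩ := (𝒱 j).exists_eq y
  refine ⟨R j, inferInstance, k j, inferInstance, B j i, inferInstance, c j i ≫ pullback.fst f (k j), inferInstance,
    A, a, ha, ?_, haq, haη, ⟨((𝒱 j).X i).isoSpec.hom w, ?_⟩, hza, (h𝓕 j s hs i).mono hle⟩
  · rw [hB]; simp [c, pullback.condition]
  · rw [← Scheme.Hom.comp_apply, ← hy, ← hw]
    simp [c]

/-- Flattening over a limit comes from a stage. -/
theorem exists_flattened_stage {X S : Scheme.{u}} (f : X ⟶ S) [LocallyOfFinitePresentation f] [QuasiCompact f]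
    [QuasiSeparated f] {I : Type u} [SmallCategory I] [IsCofiltered I] (T : I ⥤ Scheme.{u}) (c : Cone T)
    (hc : IsLimit c) [∀ (i j : I) (φ : i ⟶ j), IsAffineHom (T.map φ)] [∀ i, CompactSpace (T.obj i)]
    [∀ i, QuasiSeparatedSpace (T.obj i)] (J : ∀ k, T.obj k ⟶ S)
    (hJ : ∀ {l k : I} (φ : l ⟶ k), T.map φ ≫ J k = J l) (q : c.pt ⟶ S) (hjl : ∀ k, c.π.app k ≫ J k = q)
    (h : Flattened (pullback.snd f q)) : ∃ n, Flattened (pullback.snd f (J n)) := by
  classical
  haveI : ∀ {i j : I} (φ : i ⟶ j), IsAffineHom (T.map φ) := fun {i j} φ => inferInstance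
  obtain ⟨Z, r, hr, hrfp, hrs, hflat⟩ := h
  haveI : Nonempty I := IsCofiltered.nonempty
  let k₀ : I := Classical.arbitrary I
  let xi : pullback f (J k₀) ⟶ T.obj k₀ := pullback.snd f (J k₀)
  let qX : pullback f q ⟶ pullback f (J k₀) :=
    pullback.lift (pullback.fst f q) (pullback.snd f q ≫ c.π.app k₀) (by rw [Category.assoc, hjl, pullback.condition])
  have hX : IsPullback qX (pullback.snd f q) xi (c.π.app k₀) := by
    refine IsPullback.of_right ?_ (pullback.lift_snd _ _ _) (IsPullback.of_hasPullback f (J k₀))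
    rw [pullback.lift_fst, hjl]
    exact IsPullback.of_hasPullback f q
  haveI : CompactSpace ↥(pullback f (J k₀)) := QuasiCompact.compactSpace_of_compactSpace xi
  haveI : QuasiSeparatedSpace ↥(pullback f (J k₀)) := quasiSeparatedSpace_of_quasiSeparated xi
  let T' := BC.diag T xi
  let c' : Cone T' := BC.cone T xi hX
  have hc' : IsLimit c' := BC.isLimitCone T xi hX hc
  haveI : ∀ (a b : Over k₀) (φ : a ⟶ b), IsAffineHom (T'.map φ) := fun a b φ => BC.isAffineHom_map T xi φ
  haveI : ∀ {a b : Over k₀} (φ : a ⟶ b), IsAffineHom (T'.map φ) := fun φ => BC.isAffineHom_map T xi φ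
  haveI : ∀ b, CompactSpace (T'.obj b) := fun b => BC.compactSpace_obj T xi b
  haveI : ∀ b, QuasiSeparatedSpace (T'.obj b) := fun b => BC.quasiSeparatedSpace_obj T xi b
  haveI : LocallyOfFinitePresentation (r : Z ⟶ c'.pt) := hrfp
  haveI : IsClosedImmersion (r : Z ⟶ c'.pt) := hr
  haveI : Surjective (r : Z ⟶ c'.pt) := hrs
  obtain ⟨b₀, Z₀, r₀, g₀, hlfp, hqc, hqs, hsq⟩ := Groth.Agent.S0591.result T' c' hc' Z r
  haveI := hlfp; haveI := hqc; haveI := hqs
  let m₀ := ConsPropLib.IsModel.mk (c := c') (f := r) hlfp hqc hqs hsq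
  obtain ⟨b₁, φ₁, h₁⟩ := Desc.descend T' c' hc' b₀ (P := @IsClosedImmersion) (Q := @LocallyOfFiniteType)
    Desc.core_closedImmersion r₀ inferInstance
    (Desc.of_two @IsClosedImmersion hsq (IsPullback.of_hasPullback _ _) inferInstance)
  let m₁ := m₀.pushed φ₁
  let r₁ := pullback.snd r₀ (T'.map φ₁)
  haveI : IsClosedImmersion r₁ := h₁
  haveI : LocallyOfFinitePresentation r₁ := m₁.lfp
  obtain ⟨b₂, φ₂, h₂⟩ := Desc.descend T' c' hc' b₁ (P := @Surjective) (Q := @LocallyOfFinitePresentation)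
    ConsPropLib.core_surjective r₁ inferInstance
    (Desc.of_two @Surjective m₁.sq (IsPullback.of_hasPullback _ _) inferInstance)
  let m₂ := m₁.pushed φ₂
  let r₂ := pullback.snd r₁ (T'.map φ₂)
  haveI : Surjective r₂ := h₂
  haveI : IsClosedImmersion r₂ := MorphismProperty.pullback_snd _ _ h₁
  haveI : LocallyOfFinitePresentation r₂ := m₂.lfp
  haveI : LocallyOfFinitePresentation (pullback.snd xi (T.map b₂.hom)) := inferInstance
  let w : _ ⟶ T.obj b₂.left := r₂ ≫ pullback.snd xi (T.map b₂.hom)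
  haveI : LocallyOfFinitePresentation w :=
    inferInstanceAs (LocallyOfFinitePresentation (r₂ ≫ pullback.snd xi (T.map b₂.hom)))
  haveI : QuasiCompact w := inferInstanceAs (QuasiCompact (r₂ ≫ pullback.snd xi (T.map b₂.hom)))
  haveI : QuasiSeparated w := inferInstanceAs (QuasiSeparated (r₂ ≫ pullback.snd xi (T.map b₂.hom)))
  have hw : IsPullback (m₁.push φ₂) (r ≫ pullback.snd f q) w (c.π.app b₂.left) :=
    m₂.sq.paste_vert (BC.isPullback_proj T xi hX b₂)
  obtain ⟨n, ψ, hn⟩ := Desc.descend T c hc b₂.left (P := @Flat) (Q := @LocallyOfFinitePresentation)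
    LimSm.core_flat w inferInstance (Desc.of_two @Flat hw (IsPullback.of_hasPullback _ _) hflat)
  refine ⟨n, ?_⟩
  -- the pulled back nilimmersion over the last stage
  let v : pullback (pullback.snd xi (T.map b₂.hom)) (T.map ψ) ⟶ pullback xi (T.map b₂.hom) := pullback.fst _ _
  let r' := pullback.snd r₂ v
  have hW : Flattened (pullback.snd (pullback.snd xi (T.map b₂.hom)) (T.map ψ)) :=
    ⟨_, r', inferInstance, inferInstance, MorphismProperty.pullback_snd _ _ h₂,
      Desc.of_two @Flat (IsPullback.of_hasPullback w (T.map ψ))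
        ((IsPullback.of_hasPullback r₂ v).paste_vert (IsPullback.of_hasPullback _ _)) hn⟩
  have hsq' : IsPullback (pullback.fst (pullback.snd xi (T.map b₂.hom)) (T.map ψ) ≫ pullback.fst xi (T.map b₂.hom) ≫
      pullback.fst f (J k₀)) (pullback.snd (pullback.snd xi (T.map b₂.hom)) (T.map ψ)) f (J n) := by
    have e := (IsPullback.of_hasPullback (pullback.snd xi (T.map b₂.hom)) (T.map ψ)).paste_horiz
      ((IsPullback.of_hasPullback xi (T.map b₂.hom)).paste_horiz (IsPullback.of_hasPullback f (J k₀)))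
    rw [hJ b₂.hom, hJ ψ] at e
    exact e
  exact Flattened.of_isPullback (u := 𝟙 _) (v := hsq'.isoPullback.inv)
    (IsPullback.of_horiz_isIso ⟨by rw [Category.comp_id, hsq'.isoPullback_inv_snd]⟩) hW

/-- A proper scheme of finite presentation through a given point over which the morphism is flattened. -/
theorem exists_flattened_fp {X S : Scheme.{u}} (f : X ⟶ S) [UniversallyOpen f] [LocallyOfFinitePresentation f]
    [QuasiCompact f] [QuasiSeparated f] [CompactSpace S] [QuasiSeparatedSpace S] (x : S) :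
    ∃ (P : Scheme.{u}) (q : P ⟶ S), (IsProper q ∧ LocallyOfFinitePresentation q) ∧ x ∈ Set.range q ∧
      Flattened (pullback.snd f q) := by
  obtain ⟨P, fP, ⟨hP, Q, fQ, i, hfQ, hfQ', hi, hif⟩, ⟨z₀, hz₀⟩, hflat⟩ := exists_flattened_model f x
  haveI := hP; haveI := hfQ; haveI := hfQ'; haveI := hi
  haveI : CompactSpace Q := QuasiCompact.compactSpace_of_compactSpace fQ
  haveI : QuasiSeparatedSpace Q := quasiSeparatedSpace_of_quasiSeparated fQ
  obtain ⟨I, _, _, _, F, c, hc, hobj, ⟨e⟩⟩ := Groth.Agent.S7379.result i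
  haveI : IsConnected Iᵒᵖ := IsCofiltered.isConnected _
  let T := F ⋙ Over.forget Q
  let cT : Cone T := (Over.forget Q).mapCone c
  have hcT : IsLimit cT := isLimitOfPreserves (Over.forget Q) hc
  haveI : ∀ k, IsClosedImmersion (F.obj k).hom := fun k => (hobj k).1
  haveI : ∀ (k l : Iᵒᵖ) (φ : k ⟶ l), IsAffineHom (T.map φ) := fun k l φ => by
    haveI : IsClosedImmersion ((F.map φ).left ≫ (F.obj l).hom) := by rw [Over.w]; infer_instance
    haveI := IsClosedImmersion.of_comp (F.map φ).left (F.obj l).hom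
    exact inferInstanceAs (IsAffineHom (F.map φ).left)
  haveI : ∀ k, CompactSpace (T.obj k) := fun k => QuasiCompact.compactSpace_of_compactSpace (F.obj k).hom
  haveI : ∀ k, QuasiSeparatedSpace (T.obj k) := fun k => quasiSeparatedSpace_of_quasiSeparated (F.obj k).hom
  let J : ∀ k, T.obj k ⟶ S := fun k => (F.obj k).hom ≫ fQ
  have hJ : ∀ {l k : Iᵒᵖ} (φ : l ⟶ k), T.map φ ≫ J k = J l := fun {l k} φ => Over.w_assoc (F.map φ) fQ
  have hjl : ∀ k, cT.π.app k ≫ J k = c.pt.hom ≫ fQ := fun k => Over.w_assoc (c.π.app k) fQ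
  have he' : e.hom.left ≫ fP = c.pt.hom ≫ fQ := by rw [← hif]; exact Over.w_assoc e.hom fQ
  have hflat' : Flattened (pullback.snd f (c.pt.hom ≫ fQ)) := by
    refine Flattened.of_isPullback (u := e.hom.left)
      (v := pullback.lift (pullback.fst f _) (pullback.snd f _ ≫ e.hom.left)
        (by rw [Category.assoc, he', pullback.condition])) ?_ hflat
    refine IsPullback.of_right ?_ (pullback.lift_snd _ _ _) (IsPullback.of_hasPullback f fP)
    rw [pullback.lift_fst, he']
    exact IsPullback.of_hasPullback f _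
  obtain ⟨n, hn⟩ := exists_flattened_stage f T cT hcT J hJ _ hjl hflat'
  haveI : LocallyOfFinitePresentation (F.obj n).hom := (hobj n).2
  refine ⟨T.obj n, J n, ⟨inferInstanceAs (IsProper ((F.obj n).hom ≫ fQ)),
    inferInstanceAs (LocallyOfFinitePresentation ((F.obj n).hom ≫ fQ))⟩, ⟨cT.π.app n (e.inv.left z₀), ?_⟩, hn⟩
  have he : e.inv.left ≫ c.pt.hom ≫ fQ = fP := by rw [Over.w_assoc e.inv]; exact hif
  have h1 : J n (cT.π.app n (e.inv.left z₀)) = fP z₀ := by
    rw [← he, ← hjl n]
    rfl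
  exact h1.trans hz₀


/-- Flattening over a disjoint union. -/
theorem flattened_sigmaDesc {X S : Scheme.{u}} (f : X ⟶ S) {σ : Type u} {P : σ → Scheme.{u}} (q : ∀ i, P i ⟶ S)
    (h : ∀ i, Flattened (pullback.snd f (q i))) : Flattened (pullback.snd f (Limits.Sigma.desc q)) := by
  choose Z r hr hfp hs hflat using h
  let D := Limits.Sigma.desc q
  let g := pullback.snd f D
  let ι' : ∀ i, pullback f (q i) ⟶ pullback f D := fun i =>
    pullback.lift (pullback.fst f (q i)) (pullback.snd f (q i) ≫ Limits.Sigma.ι P i)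
      (by rw [Category.assoc, Limits.Sigma.ι_desc, pullback.condition])
  have hsq : ∀ i, IsPullback (ι' i) (pullback.snd f (q i)) g (Limits.Sigma.ι P i) := fun i => by
    refine IsPullback.of_right ?_ (pullback.lift_snd _ _ _) (IsPullback.of_hasPullback f D)
    rw [pullback.lift_fst, Limits.Sigma.ι_desc]
    exact IsPullback.of_hasPullback f (q i)
  haveI : ∀ i, IsOpenImmersion (ι' i) := fun i => MorphismProperty.of_isPullback (hsq i).flip inferInstance
  let r' : (∐ Z) ⟶ pullback f D := Limits.Sigma.desc fun i => r i ≫ ι' i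
  have hι : ∀ i, Limits.Sigma.ι Z i ≫ r' = r i ≫ ι' i := fun i => Limits.Sigma.ι_desc _ _
  have hpb : ∀ i, IsPullback (Limits.Sigma.ι Z i) (r i) r' (ι' i) := fun i => by
    refine (IsOpenImmersion.isPullback (r i) (Limits.Sigma.ι Z i) (ι' i) r' (hι i)
      (TopologicalSpace.Opens.ext ?_)).flip
    ext z
    constructor
    · rintro ⟨y, hy⟩
      obtain ⟨j, w, rfl⟩ := ModPairLib.sigma_surj Z z
      have h1 : g (r' (Limits.Sigma.ι Z j w)) = Limits.Sigma.ι P j (pullback.snd f (q j) (r j w)) := by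
        rw [← Scheme.Hom.comp_apply, ← Scheme.Hom.comp_apply, reassoc_of% (hι j), (hsq j).w,
          Scheme.Hom.comp_apply, Scheme.Hom.comp_apply]
      rw [← hy, ← Scheme.Hom.comp_apply, (hsq i).w, Scheme.Hom.comp_apply] at h1
      obtain rfl : i = j := congrArg Sigma.fst ((AlgebraicGeometry.sigmaι_eq_iff _ _ _ _ _).1 h1)
      exact ⟨w, rfl⟩
    · rintro ⟨w, rfl⟩
      exact ⟨r i w, by rw [← Scheme.Hom.comp_apply, ← hι i, Scheme.Hom.comp_apply]⟩
  have hcov : ∀ z : ↥(pullback f D), ∃ i y, ι' i y = z := fun z => by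
    obtain ⟨i, w, hw⟩ := ModPairLib.sigma_surj P (g z)
    obtain ⟨y, hy, -⟩ := Scheme.exists_preimage_of_isPullback (hsq i) z w hw.symm
    exact ⟨i, y, hy⟩
  have htop : ⨆ i, (ι' i).opensRange = (⊤ : (pullback f D).Opens) := top_le_iff.1 fun z _ => by
    obtain ⟨i, y, hy⟩ := hcov z
    exact TopologicalSpace.Opens.mem_iSup.2 ⟨i, y, hy⟩
  refine ⟨∐ Z, r', ?_, ?_, ⟨fun z => ?_⟩, ?_⟩
  · refine IsZariskiLocalAtTarget.of_iSup_eq_top (P := @IsClosedImmersion) _ htop fun i => ?_
    refine (MorphismProperty.arrow_mk_iso_iff @IsClosedImmersion (morphismRestrictOpensRange _ (ι' i))).2 ?_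
    exact Desc.of_two @IsClosedImmersion (hpb i) (IsPullback.of_hasPullback _ _) (hr i)
  · refine IsZariskiLocalAtTarget.of_iSup_eq_top (P := @LocallyOfFinitePresentation) _ htop fun i => ?_
    refine (MorphismProperty.arrow_mk_iso_iff @LocallyOfFinitePresentation (morphismRestrictOpensRange _ (ι' i))).2 ?_
    exact Desc.of_two @LocallyOfFinitePresentation (hpb i) (IsPullback.of_hasPullback _ _) (hfp i)
  · obtain ⟨i, y, rfl⟩ := hcov z
    obtain ⟨w, rfl⟩ := (hs i).surj y
    exact ⟨Limits.Sigma.ι Z i w, by rw [← Scheme.Hom.comp_apply, hι, Scheme.Hom.comp_apply]⟩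
  · have e : r' ≫ g = Limits.Sigma.desc fun i => r i ≫ pullback.snd f (q i) ≫ Limits.Sigma.ι P i :=
      Limits.Sigma.hom_ext _ _ fun i => by rw [reassoc_of% (hι i), (hsq i).w, Limits.Sigma.ι_desc]
    rw [e]
    exact IsZariskiLocalAtSource.sigmaDesc (P := @Flat) fun i => by
      haveI := hflat i
      rw [← Category.assoc]
      infer_instance

/-- Flattening by a proper surjection of finite presentation. -/
theorem exists_flattening {X S : Scheme.{u}} (f : X ⟶ S) [UniversallyOpen f] [LocallyOfFinitePresentation f]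
    [QuasiCompact f] [QuasiSeparated f] [CompactSpace S] [QuasiSeparatedSpace S] :
    ∃ (P : Scheme.{u}) (q : P ⟶ S), IsProper q ∧ Surjective q ∧ LocallyOfFinitePresentation q ∧
      Flattened (pullback.snd f q) := by
  classical
  choose P φ hφ hmem hflat using fun x : S => exists_flattened_fp f x
  haveI := fun x => (hφ x).1
  haveI := fun x => (hφ x).2
  have hopen : ∀ x, IsOpen ((WithTopology.ofTopology (t := constructibleTopology S)) ⁻¹'
      (Set.range (φ x)) : Set (WithConstructibleTopology S)) := fun x => by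
    rw [WithConstructibleTopology.isOpen_iff]
    have h1 : IsConstructible (Set.range (φ x)) := by
      rw [← Set.image_univ]
      exact (φ x).isConstructible_image IsConstructible.univ
    have h2 := IsCompact.isOpen_constructibleTopology_of_isClosed
      (Groth.Agent.IsoNatLib.isCompact_of_isConstructible h1.compl) (φ x).isClosedMap.isClosed_range
    convert h2 using 1
    ext; simp
  obtain ⟨t, ht⟩ := isCompact_univ.elim_finite_subcover _ hopen
    fun a _ => Set.mem_iUnion.2 ⟨WithTopology.ofTopology a, hmem (WithTopology.ofTopology a)⟩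
  refine ⟨∐ fun x : t => P x.1, Limits.Sigma.desc fun x : t => φ x.1, isProper_sigmaDesc' _, ⟨fun a => ?_⟩,
    IsZariskiLocalAtSource.sigmaDesc (P := @LocallyOfFinitePresentation) fun x => (hφ x.1).2,
    flattened_sigmaDesc f (fun x : t => φ x.1) fun x => hflat x.1⟩
  obtain ⟨x, hx, w, hw⟩ := Set.mem_iUnion₂.1 (ht (Set.mem_univ (WithTopology.toTopology _ a)))
  exact ⟨Limits.Sigma.ι (fun x : t => P x.1) ⟨x, hx⟩ w, by
    rw [← Scheme.Hom.comp_apply, Limits.Sigma.ι_desc]; exact hw⟩

end Groth.Agent.SubtrRef
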