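import Groth.Agent.SubtrRef.FiniteModel
import Groth.Agent.SubtrRef.Refinement
import Groth.Agent.SGA1Q.SigmaFinite
import Groth.Agent.S0385

/-! Refinement of a quasi-finite subtrusive morphism by an open cover followed by a finite surjection. -/

set_option autoImplicit false
set_option backward.isDefEq.respectTransparency false
set_option backward.isDefEq.respectTransparency.types false
set_option linter.style.haveILetI false
universe u

open CategoryTheory CategoryTheory.Limits AlgebraicGeometry Topology Groth.Agent.MorLib Groth.Agent.EtRep9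

noncomputable section

namespace Groth.Agent.SubtrRef

/-- Finite surjection with local lifts over a ring spectrum. -/
theorem exists_finite_surj_lifts_spec {R : CommRingCat.{u}} {X : Scheme.{u}} (f : X ⟶ Spec R)
    [LocallyOfFinitePresentation f] [LocallyQuasiFinite f] (hf : Subtr.UnivSSubtrusive f) :
    ∃ (P : Scheme.{u}) (q : P ⟶ Spec R), IsFinite q ∧ Surjective q ∧ LocallyOfFinitePresentation q ∧
      LocLifts f q := by
  classical
  choose P φ hφ hmem hloc using fun x : PrimeSpectrum R => exists_finite_lift_model f hf x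
  haveI := fun x => (hφ x).1
  haveI := fun x => (hφ x).2
  have hopen : ∀ x, IsOpen ((WithTopology.ofTopology (t := constructibleTopology (Spec R))) ⁻¹'
      (Set.range (φ x)) : Set (WithConstructibleTopology (Spec R))) := fun x => by
    rw [WithConstructibleTopology.isOpen_iff]
    have h1 : IsConstructible (Set.range (φ x)) := by
      rw [← Set.image_univ]
      exact (φ x).isConstructible_image IsConstructible.univ
    have h2 := IsCompact.isOpen_constructibleTopology_of_isClosed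
      (Groth.Agent.IsoNatLib.isCompact_of_isConstructible h1.compl) (φ x).isClosedMap.isClosed_range
    convert h2 using 1
    ext; simp
  obtain ⟨t, ht⟩ := isCompact_univ.elim_finite_subcover _ hopen
    fun a _ => Set.mem_iUnion.2 ⟨WithTopology.ofTopology a, hmem (WithTopology.ofTopology a)⟩
  refine ⟨∐ fun x : t => P x.1, Limits.Sigma.desc fun x : t => φ x.1,
    SGA1Q.isFinite_sigmaDesc _ fun x => (hφ x.1).1, ⟨fun a => ?_⟩,
    IsZariskiLocalAtSource.sigmaDesc (P := @LocallyOfFinitePresentation) fun x => (hφ x.1).2,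
    locLifts_desc (fun x : t => φ x.1) fun x => hloc x.1⟩
  obtain ⟨x, hx, w, hw⟩ := Set.mem_iUnion₂.1 (ht (Set.mem_univ (WithTopology.toTopology _ a)))
  exact ⟨Limits.Sigma.ι (fun x : t => P x.1) ⟨x, hx⟩ w, by
    rw [← Scheme.Hom.comp_apply, Limits.Sigma.ι_desc]; exact hw⟩

/-- Finite surjection with local lifts over an affine scheme. -/
theorem exists_finite_surj_lifts_affine {X Y : Scheme.{u}} [IsAffine Y] (f : X ⟶ Y)
    [LocallyOfFinitePresentation f] [LocallyQuasiFinite f] (hf : Subtr.UnivSSubtrusive f) :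
    ∃ (P : Scheme.{u}) (q : P ⟶ Y), IsFinite q ∧ Surjective q ∧ LocallyOfFinitePresentation q ∧
      LocLifts f q := by
  obtain ⟨P, q, hq, hq', hq'', hl⟩ := exists_finite_surj_lifts_spec (f ≫ Y.isoSpec.hom)
    (univSSubtrusive_comp hf (univSSubtrusive_of_closed Y.isoSpec.hom))
  haveI := hq; haveI := hq'; haveI := hq''
  refine ⟨P, q ≫ Y.isoSpec.inv, inferInstance, inferInstance, inferInstance, fun z => ?_⟩
  obtain ⟨O, l, hz, h⟩ := hl z
  exact ⟨O, l, hz, by rw [← cancel_mono Y.isoSpec.hom]; simpa using h⟩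

variable {X Y : Scheme.{u}} (f : X ⟶ Y)

/-- Local lifts over the points above an open. -/
def LocLiftsOn {T : Scheme.{u}} (q : T ⟶ Y) (U : Y.Opens) : Prop :=
  ∀ z : T, q z ∈ U → ∃ (O : T.Opens) (l : (O : Scheme.{u}) ⟶ X), z ∈ O ∧ l ≫ f = O.ι ≫ q

theorem LocLiftsOn.comp {f : X ⟶ Y} {T T' : Scheme.{u}} {q : T ⟶ Y} {U : Y.Opens} (h : LocLiftsOn f q U) (a : T' ⟶ T) :
    LocLiftsOn f (a ≫ q) U := fun z hz => by
  obtain ⟨O, l, hO, hl⟩ := h (a z) hz
  exact ⟨a ⁻¹ᵁ O, (a ∣_ O) ≫ l, hO, by rw [Category.assoc, hl, morphismRestrict_ι_assoc]⟩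

/-- A finite surjection over an open extends, keeping the lifts over that open. -/
theorem exists_finite_surj_liftsOn [IsNoetherian Y] (U : Y.affineOpens) [LocallyOfFinitePresentation f]
    [LocallyQuasiFinite f] (hf : Subtr.UnivSSubtrusive f) :
    ∃ (P : Scheme.{u}) (q : P ⟶ Y), IsFinite q ∧ Surjective q ∧ LocLiftsOn f q U.1 := by
  haveI : IsAffine (U.1 : Scheme.{u}) := U.2
  obtain ⟨Q, r, hr, hr', -, hl⟩ := exists_finite_surj_lifts_affine (pullback.snd f U.1.ι)
    (MorphismProperty.pullback_snd (P := Subtr.UnivSSubtrusive) _ _ hf)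
  haveI := hr; haveI := hr'
  obtain ⟨T, j, π, hj, -, hπ, hjπ⟩ := Groth.Agent.S0385.result (r ≫ U.1.ι)
  haveI := hj; haveI := hπ
  let 𝒵 := Scheme.IdealSheafData.vanishingIdeal (⟨closure (Set.range j), isClosed_closure⟩ : TopologicalSpace.Closeds T)
  have h𝒵 : Set.range 𝒵.subschemeι = closure (Set.range j) := by
    rw [Scheme.IdealSheafData.range_subschemeι, Scheme.IdealSheafData.coe_support_vanishingIdeal]
    rfl
  let 𝒲 := Scheme.IdealSheafData.vanishingIdeal (⟨(U.1 : Set Y)ᶜ, U.1.2.isClosed_compl⟩ : TopologicalSpace.Closeds Y)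
  have h𝒲 : Set.range 𝒲.subschemeι = (U.1 : Set Y)ᶜ := by
    rw [Scheme.IdealSheafData.range_subschemeι, Scheme.IdealSheafData.coe_support_vanishingIdeal]
    rfl
  -- points of the closure over the open lie in `Q`
  have hclosed : π ⁻¹' (U.1 : Set Y) ∩ closure (Set.range j) ⊆ Set.range j := by
    let j' : Q ⟶ (π ⁻¹ᵁ U.1 : Scheme.{u}) := IsOpenImmersion.lift (π ⁻¹ᵁ U.1).ι j (by
      rw [Scheme.Opens.range_ι]
      rintro _ ⟨y, rfl⟩
      show π (j y) ∈ U.1
      rw [← Scheme.Hom.comp_apply, hjπ, Scheme.Hom.comp_apply]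
      exact (r y).2)
    have hj' : j' ≫ (π ⁻¹ᵁ U.1).ι = j := IsOpenImmersion.lift_fac _ _ _
    have hj'' : j' ≫ (π ∣_ U.1) = r := by
      rw [← cancel_mono U.1.ι, Category.assoc, morphismRestrict_ι, reassoc_of% hj', hjπ]
    haveI : UniversallyClosed (j' ≫ (π ∣_ U.1)) := by rw [hj'']; infer_instance
    haveI : UniversallyClosed j' := UniversallyClosed.of_comp_of_isSeparated j' (π ∣_ U.1)
    rintro z ⟨hzU, hz⟩
    have hmem : (⟨z, hzU⟩ : (π ⁻¹ᵁ U.1 : T.Opens)) ∈ closure (Set.range j') := by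
      rw [(π ⁻¹ᵁ U.1).ι.isOpenEmbedding.isInducing.closure_eq_preimage_closure_image]
      show z ∈ closure _
      convert hz using 2
      rw [← Set.range_comp, ← hj']
      rfl
    rw [j'.isClosedMap.isClosed_range.closure_eq] at hmem
    obtain ⟨y, hy⟩ := hmem
    exact ⟨y, by rw [← hj', Scheme.Hom.comp_apply, hy]; rfl⟩
  let σ : ULift.{u} Bool → Scheme.{u} := fun b => if b.down then 𝒵.subscheme else 𝒲.subscheme
  let q : ∀ b, σ b ⟶ Y := fun b => match b with
    | ⟨true⟩ => 𝒵.subschemeι ≫ π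
    | ⟨false⟩ => 𝒲.subschemeι
  haveI : IsFinite (Limits.Sigma.desc q) := SGA1Q.isFinite_sigmaDesc q fun b => by
    rcases b with ⟨_ | _⟩
    · exact inferInstanceAs (IsFinite 𝒲.subschemeι)
    · exact inferInstanceAs (IsFinite (𝒵.subschemeι ≫ π))
  refine ⟨∐ σ, Limits.Sigma.desc q, inferInstance, ⟨fun y => ?_⟩, fun z hz => ?_⟩
  · by_cases hy : y ∈ U.1
    · obtain ⟨w, hw⟩ := r.surjective ⟨y, hy⟩
      obtain ⟨w', hw'⟩ : j w ∈ Set.range 𝒵.subschemeι := by rw [h𝒵]; exact subset_closure ⟨w, rfl⟩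
      refine ⟨Limits.Sigma.ι σ ⟨true⟩ w', ?_⟩
      rw [← Scheme.Hom.comp_apply, Limits.Sigma.ι_desc]
      show (𝒵.subschemeι ≫ π) w' = y
      rw [Scheme.Hom.comp_apply, hw', ← Scheme.Hom.comp_apply, hjπ, Scheme.Hom.comp_apply, hw]
      rfl
    · obtain ⟨w, hw⟩ : y ∈ Set.range 𝒲.subschemeι := by rw [h𝒲]; exact hy
      refine ⟨Limits.Sigma.ι σ ⟨false⟩ w, ?_⟩
      rw [← Scheme.Hom.comp_apply, Limits.Sigma.ι_desc]
      exact hw
  · obtain ⟨⟨_ | _⟩, w, rfl⟩ := ModPairLib.sigma_surj σ z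
    · exfalso
      rw [← Scheme.Hom.comp_apply, Limits.Sigma.ι_desc] at hz
      have h : (𝒲.subschemeι) w ∈ (U.1 : Set Y)ᶜ := by rw [← h𝒲]; exact ⟨w, rfl⟩
      exact h hz
    · let k : 𝒵.subscheme ⟶ ∐ σ := Limits.Sigma.ι σ ⟨true⟩
      have hk : k ≫ Limits.Sigma.desc q = 𝒵.subschemeι ≫ π := Limits.Sigma.ι_desc _ _
      haveI : IsOpenImmersion k := inferInstanceAs (IsOpenImmersion (Limits.Sigma.ι σ ⟨true⟩))
      change (Limits.Sigma.desc q) (k w) ∈ U.1 at hz
      rw [← Scheme.Hom.comp_apply, hk, Scheme.Hom.comp_apply] at hz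
      obtain ⟨y, hy⟩ : 𝒵.subschemeι w ∈ Set.range j :=
        hclosed ⟨hz, by rw [← h𝒵]; exact ⟨w, rfl⟩⟩
      obtain ⟨O, l, hO, hlO⟩ := hl y
      let W : T.Opens := (O.ι ≫ j).opensRange
      let m : ((𝒵.subschemeι ⁻¹ᵁ W : 𝒵.subscheme.Opens) : Scheme.{u}) ⟶ X :=
        (𝒵.subschemeι ∣_ W) ≫ (O.ι ≫ j).isoOpensRange.inv ≫ l ≫ pullback.fst f U.1.ι
      have hm : m ≫ f = (𝒵.subschemeι ⁻¹ᵁ W).ι ≫ 𝒵.subschemeι ≫ π := by
        simp only [m, Category.assoc]
        rw [pullback.condition, reassoc_of% hlO, ← hjπ, ← Category.assoc O.ι j π,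
          Scheme.Hom.isoOpensRange_inv_comp_assoc, morphismRestrict_ι_assoc]
      let n : (𝒵.subschemeι ⁻¹ᵁ W : Scheme.{u}) ⟶ ∐ σ := (𝒵.subschemeι ⁻¹ᵁ W).ι ≫ k
      refine ⟨n.opensRange, n.isoOpensRange.inv ≫ m, ⟨⟨w, ?_⟩, rfl⟩, ?_⟩
      · show 𝒵.subschemeι w ∈ Set.range (O.ι ≫ j)
        exact ⟨⟨y, hO⟩, hy⟩
      · rw [Category.assoc, hm, Iso.inv_comp_eq, Scheme.Hom.isoOpensRange_hom_ι_assoc, Category.assoc, hk]

/-- Finite surjections with local lifts over a noetherian scheme. -/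
theorem exists_finite_surj_lifts_noetherian [IsNoetherian Y] [LocallyOfFinitePresentation f]
    [LocallyQuasiFinite f] (hf : Subtr.UnivSSubtrusive f) :
    ∃ (P : Scheme.{u}) (q : P ⟶ Y), IsFinite q ∧ Surjective q ∧ LocallyOfFinitePresentation q ∧
      LocLifts f q := by
  classical
  have key : ∀ t : Finset Y.affineOpens, ∃ (P : Scheme.{u}) (q : P ⟶ Y), IsFinite q ∧ Surjective q ∧
      ∀ U ∈ t, LocLiftsOn f q U.1 := by
    intro t
    induction t using Finset.induction with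
    | empty => exact ⟨Y, 𝟙 Y, inferInstance, inferInstance, by simp⟩
    | insert U t _ ih =>
      obtain ⟨P, q, hq, hq', hP⟩ := ih
      obtain ⟨P', q', hq₁, hq₁', hP'⟩ := exists_finite_surj_liftsOn f U hf
      haveI := hq; haveI := hq'; haveI := hq₁; haveI := hq₁'
      refine ⟨pullback q q', pullback.fst q q' ≫ q, inferInstance, inferInstance, fun V hV => ?_⟩
      rcases Finset.mem_insert.1 hV with rfl | hV
      · rw [pullback.condition]
        exact hP'.comp _
      · exact (hP V hV).comp _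
  obtain ⟨t, ht⟩ := (isCompact_univ (X := Y)).elim_finite_subcover (fun U : Y.affineOpens => ((U.1 : Y.Opens) : Set Y))
    (fun U => U.1.2) fun y _ => by
      obtain ⟨U, hU, hy, -⟩ := exists_isAffineOpen_mem_and_subset (x := y) (U := ⊤) trivial
      exact Set.mem_iUnion.2 ⟨⟨U, hU⟩, hy⟩
  obtain ⟨P, q, hq, hq', hP⟩ := key t
  haveI := hq
  refine ⟨P, q, hq, hq', inferInstance, fun z => ?_⟩
  obtain ⟨U, hU, hz⟩ := Set.mem_iUnion₂.1 (ht (Set.mem_univ (q z)))
  exact hP U hU z hz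

/-- Finite surjections with local lifts. -/
theorem exists_finite_surj_lifts (hY : IsAffine Y ∨ IsNoetherian Y) [LocallyOfFinitePresentation f]
    [LocallyQuasiFinite f] (hf : Subtr.UnivSSubtrusive f) :
    ∃ (P : Scheme.{u}) (q : P ⟶ Y), IsFinite q ∧ Surjective q ∧ LocallyOfFinitePresentation q ∧
      LocLifts f q := by
  rcases hY with hY | hY
  · exact exists_finite_surj_lifts_affine f hf
  · exact exists_finite_surj_lifts_noetherian f hf

/-- An open cover over which the lifts glue to a morphism. -/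
theorem exists_openCover_of_locLifts {P : Scheme.{u}} (q : P ⟶ Y) [CompactSpace P] [QuasiSeparatedSpace P]
    (hl : LocLifts f q) :
    ∃ (X' : Scheme.{u}) (h : X' ⟶ X) (p : X' ⟶ P), h ≫ f = p ≫ q ∧ Surjective p ∧ QuasiCompact p ∧
      QuasiSeparated p ∧ ∀ x : X', ∃ U : X'.Opens, x ∈ U ∧ IsOpenImmersion (U.ι ≫ p) := by
  classical
  choose O l hz hlf using hl
  choose U hU hzU hUO using fun z : P => exists_isAffineOpen_mem_and_subset (U := O z) (hz z)
  obtain ⟨t, ht⟩ := isCompact_univ.elim_finite_subcover (fun z : P => (U z : Set P)) (fun z => (U z).2)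
    fun z _ => Set.mem_iUnion.2 ⟨z, hzU z⟩
  haveI : ∀ z : t, IsAffine (U z.1 : Scheme.{u}) := fun z => hU z.1
  let h : (∐ fun z : t => (U z.1 : Scheme.{u})) ⟶ X :=
    Limits.Sigma.desc fun z : t => P.homOfLE (hUO z.1) ≫ l z.1
  let p : (∐ fun z : t => (U z.1 : Scheme.{u})) ⟶ P := Limits.Sigma.desc fun z : t => (U z.1).ι
  have he : h ≫ f = p ≫ q := Limits.Sigma.hom_ext _ _ fun z => by
    simp only [h, p, Limits.Sigma.ι_desc_assoc, Category.assoc, hlf]
    rw [Scheme.homOfLE_ι_assoc]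
  refine ⟨_, h, p, he, ⟨fun y => ?_⟩, QuasiCompact.of_comp p (terminal.from P),
    QuasiSeparated.of_comp p (terminal.from P), fun x => ?_⟩
  · obtain ⟨z, hz', hy⟩ := Set.mem_iUnion₂.1 (ht (Set.mem_univ y))
    exact ⟨Limits.Sigma.ι (fun z : t => (U z.1 : Scheme.{u})) ⟨z, hz'⟩ ⟨y, hy⟩, by
      rw [← Scheme.Hom.comp_apply, Limits.Sigma.ι_desc]; rfl⟩
  · obtain ⟨z, w, rfl⟩ := ModPairLib.sigma_surj (fun z : t => (U z.1 : Scheme.{u})) x
    let j := Limits.Sigma.ι (fun z : t => (U z.1 : Scheme.{u})) z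
    refine ⟨j.opensRange, ⟨w, rfl⟩, ?_⟩
    rw [← Scheme.Hom.isoOpensRange_inv_comp j, Category.assoc, Limits.Sigma.ι_desc]
    infer_instance

end Groth.Agent.SubtrRef
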