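import Groth.Agent.SubtrRef.FlatStage
import Groth.Agent.MorLib.Thickening

/-! Universal openness of morphisms of finite presentation descends to a stage of a limit. -/

set_option autoImplicit false
set_option backward.isDefEq.respectTransparency false
set_option backward.isDefEq.respectTransparency.types false
set_option linter.style.haveILetI false
universe u

open CategoryTheory CategoryTheory.Limits AlgebraicGeometry Topology Groth.Agent.MorLib

noncomputable section

namespace Groth.Agent.SubtrRef

/-- Universal openness descends along universally closed surjections. -/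
theorem universallyOpen_of_pullback {X Y P : Scheme.{u}} (f : X ⟶ Y) (q : P ⟶ Y) [UniversallyClosed q] [Surjective q]
    (h : UniversallyOpen (pullback.snd f q)) : UniversallyOpen f := by
  refine ⟨fun {X' Y'} i₁ i₂ f' hsq U hU => ?_⟩
  let q' := pullback.snd q i₂
  haveI : UniversallyClosed q' := MorphismProperty.pullback_snd _ _ inferInstance
  haveI : Surjective q' := MorphismProperty.pullback_snd _ _ inferInstance
  have hsnd : UniversallyOpen (pullback.snd f' q') :=
    Desc.of_factor @UniversallyOpen h (a := pullback.fst q i₂) pullback.condition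
      ((IsPullback.of_hasPullback f' q').paste_horiz hsq.flip)
  have e : q' ⁻¹' (f' '' U) = pullback.snd f' q' '' (pullback.fst f' q' ⁻¹' U) := by
    ext p
    constructor
    · rintro ⟨x, hx, hxp⟩
      obtain ⟨z, hz, hz'⟩ := Scheme.exists_preimage_of_isPullback (IsPullback.of_hasPullback f' q') x p hxp
      exact ⟨z, by show pullback.fst f' q' z ∈ U; rw [hz]; exact hx, hz'⟩
    · rintro ⟨z, hz, rfl⟩
      exact ⟨_, hz, by rw [← Scheme.Hom.comp_apply, pullback.condition, Scheme.Hom.comp_apply]⟩
  refine (q'.isClosedMap.isQuotientMap q'.continuous q'.surjective).isOpen_preimage.1 ?_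
  rw [e]
  exact (pullback.snd f' q').isOpenMap _ (hU.preimage (pullback.fst f' q').continuous)

/-- A flattened morphism of finite presentation is universally open. -/
theorem Flattened.universallyOpen {W T : Scheme.{u}} {g : W ⟶ T} [LocallyOfFinitePresentation g] (h : Flattened g) :
    UniversallyOpen g := by
  obtain ⟨Z, r, hr, hfp, hs, hflat⟩ := h
  haveI := hfp; haveI := hflat; haveI := hs
  haveI : UniversallyOpen (r ≫ g) := UniversallyOpen.of_flat _
  exact MorLib.universallyOpen_of_comp_surjective r g

attribute [local instance] CategoryTheory.isConnected_of_hasTerminal in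
/-- The affine case of descent. -/
theorem core_universallyOpen :
    Desc.Core @UniversallyOpen (@LocallyOfFinitePresentation : MorphismProperty Scheme.{u}) := by
  intro I _ _ D c hc hD i hi X₀ f₀ hcs hqs hQ h
  haveI : ∀ {i j : I} (f : i ⟶ j), IsAffineHom (D.map f) := fun {i j} f => hD i j f
  haveI := hi; haveI := hcs; haveI := hqs
  haveI : LocallyOfFinitePresentation f₀ := hQ
  haveI : QuasiCompact f₀ := quasiCompact_of_compactSpace f₀
  haveI : QuasiSeparated f₀ := QuasiSeparated.of_comp f₀ (terminal.from _)
  let T : Over i ⥤ Scheme.{u} := Over.forget i ⋙ D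
  let cT : Cone T := c.whisker (Over.forget i)
  have hcT : IsLimit cT := (Functor.Initial.isLimitWhiskerEquiv (Over.forget i) c).symm hc
  haveI : ∀ (a b : Over i) (φ : a ⟶ b), IsAffineHom (T.map φ) := fun a b φ => hD _ _ φ.left
  haveI : ∀ {a b : Over i} (φ : a ⟶ b), IsAffineHom (T.map φ) := fun φ => hD _ _ φ.left
  haveI : ∀ a : Over i, IsAffine (T.obj a) := fun a =>
    haveI : IsAffineHom (D.map a.hom) := inferInstance
    isAffine_of_isAffineHom (D.map a.hom)
  haveI : IsAffine cT.pt := Scheme.isAffine_of_isLimit _ hcT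
  let f : pullback f₀ (c.π.app i) ⟶ cT.pt := pullback.snd f₀ (c.π.app i)
  haveI : LocallyOfFinitePresentation f := MorphismProperty.pullback_snd _ _ inferInstance
  haveI : QuasiCompact f := MorphismProperty.pullback_snd _ _ inferInstance
  haveI : QuasiSeparated f := MorphismProperty.pullback_snd _ _ inferInstance
  haveI : UniversallyOpen f := h
  obtain ⟨P, q, hq, hq', hq'', hflat⟩ := exists_flattening f
  haveI := hq; haveI := hq'; haveI := hq''
  obtain ⟨a, P₀, q₀, qP, sq, hp, hsurj, hlfp⟩ := exists_proper_model T cT hcT q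
  haveI := hp; haveI := hsurj; haveI := hlfp
  haveI : CompactSpace P₀ := QuasiCompact.compactSpace_of_compactSpace q₀
  haveI : QuasiSeparatedSpace P₀ := quasiSeparatedSpace_of_quasiSeparated q₀
  let B := BC.diag T q₀
  haveI : ∀ (b b' : Over a) (φ : b ⟶ b'), IsAffineHom (B.map φ) := fun _ _ φ => BC.isAffineHom_map T q₀ φ
  haveI : ∀ b, CompactSpace (B.obj b) := fun b => BC.compactSpace_obj T q₀ b
  haveI : ∀ b, QuasiSeparatedSpace (B.obj b) := fun b => BC.quasiSeparatedSpace_obj T q₀ b
  let J : ∀ b : Over a, B.obj b ⟶ D.obj i := fun b => pullback.snd q₀ (T.map b.hom) ≫ D.map b.left.hom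
  obtain ⟨n, hn⟩ := exists_flattened_stage f₀ B (BC.cone T q₀ sq) (BC.isLimitCone T q₀ sq hcT) J
    (fun {b b'} φ => by
      show B.map φ ≫ pullback.snd q₀ (T.map b'.hom) ≫ D.map b'.left.hom = _
      rw [reassoc_of% (BC.map_snd T q₀ φ)]
      show pullback.snd q₀ (T.map b.hom) ≫ D.map φ.left.left ≫ D.map b'.left.hom = _
      rw [← D.map_comp, Over.w])
    (q ≫ c.π.app i) (fun b => by
      show BC.proj T q₀ sq b ≫ pullback.snd q₀ (T.map b.hom) ≫ D.map b.left.hom = _
      rw [BC.proj_snd_assoc]
      exact congrArg (q ≫ ·) (c.w b.left.hom))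
    (by
      have e : IsPullback (pullback.fst f q ≫ pullback.fst f₀ (c.π.app i)) (pullback.snd f q) f₀ (q ≫ c.π.app i) :=
        (IsPullback.of_hasPullback f q).paste_horiz (IsPullback.of_hasPullback f₀ (c.π.app i))
      exact Flattened.of_isPullback (u := 𝟙 _) (v := e.isoPullback.inv)
        (IsPullback.of_horiz_isIso ⟨by rw [Category.comp_id, e.isoPullback_inv_snd]⟩) hflat)
  refine ⟨n.left.left, n.left.hom, ?_⟩
  let qn : B.obj n ⟶ D.obj n.left.left := pullback.snd q₀ (T.map n.hom)
  haveI : IsProper qn := MorphismProperty.pullback_snd _ _ inferInstance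
  haveI : Surjective qn := MorphismProperty.pullback_snd _ _ inferInstance
  refine universallyOpen_of_pullback _ qn ?_
  exact Desc.of_two @UniversallyOpen (IsPullback.of_hasPullback f₀ (J n))
    ((IsPullback.of_hasPullback (pullback.snd f₀ (D.map n.left.hom)) qn).paste_horiz
      (IsPullback.of_hasPullback f₀ (D.map n.left.hom))) hn.universallyOpen

end Groth.Agent.SubtrRef
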