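import Groth.Agent.SubtrRef.LiftModel
import Groth.Agent.SubtrRef.Stage
import Mathlib.RingTheory.ZariskisMainTheorem

/-! For quasi-finite subtrusive morphisms the local lifts exist over finite schemes. -/

set_option autoImplicit false
set_option backward.isDefEq.respectTransparency false
set_option backward.isDefEq.respectTransparency.types false
set_option linter.style.haveILetI false
universe u

open CategoryTheory CategoryTheory.Limits AlgebraicGeometry IsLocalRing TensorProduct Groth.Agent.MorLib Groth.Agent.EtRep9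

noncomputable section

namespace Groth.Agent.SubtrRef

variable {X : Scheme.{u}} {R : CommRingCat.{u}} (f : X ⟶ Spec R)

/-- Near each prime of an absolutely integrally closed domain over the base there is a lift. -/
theorem exists_lift_near [LocallyOfFiniteType f] [LocallyQuasiFinite f] (hf : Subtr.UnivSSubtrusive f) (K : Type u)
    [Field K] [IsAlgClosed K] [Algebra R K] (m : PrimeSpectrum (integralClosure (R : Type u) K)) :
    ∃ (s : integralClosure (R : Type u) K) (F : Finset K), s ∉ m.asIdeal ∧ (∀ a ∈ F, IsIntegral R a) ∧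
      ∃ l : Spec (CommRingCat.of (Algebra.adjoin (R : Type u) ((F : Set K) ∪ {(s : K)⁻¹}))) ⟶ X, l ≫ f =
        Spec.map (CommRingCat.ofHom
          (algebraMap R (Algebra.adjoin (R : Type u) ((F : Set K) ∪ {(s : K)⁻¹})))) := by
  classical
  let S := integralClosure (R : Type u) K
  let Sm := Localization.AtPrime m.asIdeal
  have hu : ∀ s : m.asIdeal.primeCompl, IsUnit ((algebraMap S K) (s : S)) := fun s => by
    refine isUnit_iff_ne_zero.2 fun h => s.2 ?_
    have h0 : (s : S) = 0 := Subtype.ext h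
    rw [h0]
    exact zero_mem _
  let r₀ : Sm →+* K := IsLocalization.lift (M := m.asIdeal.primeCompl) (g := algebraMap S K) hu
  obtain ⟨V, hV, hloc⟩ := exists_factor_valuationRing r₀
  have hSV : ∀ a : S, (a : K) ∈ V := fun a => by
    have h := hV (algebraMap S Sm a)
    rwa [IsLocalization.lift_eq] at h
  letI : Algebra R V := ((algebraMap R K).codRestrict V.toSubring fun x => hSV (algebraMap R S x)).toAlgebra
  obtain ⟨a, ha⟩ := exists_valuation_lift f hf K V (Spec.map (CommRingCat.ofHom (algebraMap R V)))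
  obtain ⟨U, hU, haU, -⟩ := exists_isAffineOpen_mem_and_subset (x := a (closedPoint V)) (U := ⊤) trivial
  let j : Spec Γ(X, U) ⟶ X := hU.fromSpec
  obtain ⟨a', ha'⟩ := Groth.Agent.HTopCov.exists_lift_of_closedPoint (R := CommRingCat.of V) j a
    (by rw [hU.range_fromSpec]; exact haU)
  let φ : R ⟶ Γ(X, U) := Spec.preimage (j ≫ f)
  have hφ : Spec.map φ = j ≫ f := Spec.map_preimage _
  haveI : LocallyOfFiniteType (Spec.map φ) := by rw [hφ]; infer_instance
  haveI : LocallyQuasiFinite (Spec.map φ) := by rw [hφ]; infer_instance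
  have hft : φ.hom.FiniteType := (HasRingHomProperty.Spec_iff (P := @LocallyOfFiniteType)).1 inferInstance
  have hqf : φ.hom.QuasiFinite := (HasRingHomProperty.Spec_iff (P := @LocallyQuasiFinite)).1 inferInstance
  let B := Γ(X, U)
  letI : Algebra R B := φ.hom.toAlgebra
  haveI : Algebra.FiniteType R B := hft
  haveI : Algebra.QuasiFinite R B := hqf
  let θ : B ⟶ CommRingCat.of V := Spec.preimage a'
  have hθ : φ ≫ θ = CommRingCat.ofHom (algebraMap R V) := Spec.map_injective (by
    rw [Spec.map_comp, Spec.map_preimage, hφ, reassoc_of% ha', ha])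
  let β : B →ₐ[(R : Type u)] K :=
    { V.subtype.comp θ.hom with
      commutes' := fun x => congrArg (fun ψ : (R : CommRingCat.{u}) ⟶ CommRingCat.of V => ((ψ.hom x : V) : K)) hθ }
  let μ : S ⊗[(R : Type u)] B →ₐ[S] K := Algebra.TensorProduct.lift (Algebra.ofId S K) β fun _ _ => Commute.all _ _
  let C : Subalgebra S K := μ.range
  haveI : Algebra.FiniteType S C :=
    Algebra.FiniteType.of_surjective μ.rangeRestrict μ.rangeRestrict_surjective
  haveI : Algebra.QuasiFinite S C :=
    Algebra.QuasiFinite.of_surjective_algHom μ.rangeRestrict μ.rangeRestrict_surjective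
  have hCV : ∀ c ∈ C, c ∈ V := by
    rintro _ ⟨z, rfl⟩
    induction z using TensorProduct.induction_on with
    | zero => simp
    | tmul a b =>
      show μ (a ⊗ₜ b) ∈ V
      rw [Algebra.TensorProduct.lift_tmul]
      exact mul_mem (hSV a) (θ.hom b).2
    | add x y hx hy => simp only [map_add]; exact add_mem hx hy
  let ιCV : C →+* V := (Subalgebra.val C).toRingHom.codRestrict V.toSubring fun c => hCV c c.2
  let Q : Ideal C := (maximalIdeal V).comap ιCV
  haveI : Q.IsPrime := Ideal.IsPrime.comap _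
  have hzmt := Algebra.ZariskisMainProperty.of_finiteType (R := S) (S := C) Q
  rw [Algebra.zariskisMainProperty_iff] at hzmt
  obtain ⟨r, hrQ, hr, hx⟩ := hzmt
  have hint : ∀ c : C, IsIntegral S c → ∃ a : S, (a : K) = (c : K) := fun c hc =>
    ⟨⟨(c : K), isIntegral_trans (A := S) _ (hc.map (Subalgebra.val C))⟩, rfl⟩
  obtain ⟨s, hs⟩ := hint r hr
  have hsm : s ∉ m.asIdeal := fun hsm => hrQ (by
    show ιCV r ∈ maximalIdeal V
    have h1 : algebraMap S Sm s ∈ maximalIdeal Sm :=
      (IsLocalization.AtPrime.to_map_mem_maximal_iff Sm m.asIdeal s).2 hsm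
    let rV : Sm →+* V := r₀.codRestrict V.toSubring hV
    haveI : IsLocalHom rV := hloc
    have h3 : rV (algebraMap S Sm s) ∈ maximalIdeal V :=
      (mem_maximalIdeal _).2 fun hunit => (mem_maximalIdeal _).1 h1 (IsLocalHom.map_nonunit (f := rV) _ hunit)
    have h4 : rV (algebraMap S Sm s) = ιCV r := Subtype.ext (by
      show r₀ (algebraMap S Sm s) = (r : K)
      rw [IsLocalization.lift_eq]
      exact hs)
    rwa [h4] at h3)
  have hs0 : (s : K) ≠ 0 := fun h => hsm (by rw [show s = 0 from Subtype.ext h]; exact zero_mem _)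
  obtain ⟨G, hG⟩ := Algebra.FiniteType.out (R := (R : Type u)) (A := B)
  have hnum : ∀ b : B, ∃ (k : ℕ) (c : S), (c : K) = (s : K) ^ k * β b := fun b => by
    obtain ⟨k, hk⟩ := hx ⟨β b, ⟨1 ⊗ₜ b, by simp [μ]⟩⟩
    obtain ⟨c, hc⟩ := hint _ hk
    refine ⟨k, c, ?_⟩
    rw [hc]
    show (r : K) ^ k * β b = _
    rw [hs]
  choose k c hc using hnum
  let F : Finset K := G.image fun b => (c b : K)
  have hle : β.range ≤ Algebra.adjoin (R : Type u) ((F : Set K) ∪ {(s : K)⁻¹}) := by
    rw [← Algebra.map_top, ← hG, AlgHom.map_adjoin, Algebra.adjoin_le_iff]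
    rintro _ ⟨b, hb, rfl⟩
    have e : β b = ((s : K)⁻¹) ^ k b * (c b : K) := by
      rw [hc, ← mul_assoc, ← mul_pow, inv_mul_cancel₀ hs0, one_pow, one_mul]
    show β b ∈ Algebra.adjoin (R : Type u) ((F : Set K) ∪ {(s : K)⁻¹})
    rw [e]
    have h1 : (s : K)⁻¹ ∈ Algebra.adjoin (R : Type u) ((F : Set K) ∪ {(s : K)⁻¹}) :=
      Algebra.subset_adjoin (Set.mem_union_right _ (Set.mem_singleton _))
    have h2 : (c b : K) ∈ Algebra.adjoin (R : Type u) ((F : Set K) ∪ {(s : K)⁻¹}) :=
      Algebra.subset_adjoin (Set.mem_union_left _ (Finset.mem_coe.2 (Finset.mem_image.2 ⟨b, hb, rfl⟩)))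
    exact mul_mem (pow_mem h1 _) h2
  let ν := β.codRestrict _ fun b => hle ⟨b, rfl⟩
  refine ⟨s, F, hsm, fun x hx => ?_, Spec.map (CommRingCat.ofHom ν.toRingHom) ≫ j, ?_⟩
  · obtain ⟨b, -, rfl⟩ := Finset.mem_image.1 hx
    exact (c b).2
  · rw [Category.assoc, ← hφ, ← Spec.map_comp]
    congr 1
    ext x
    exact Subtype.ext_iff.1 (ν.commutes x)

/-- A finite algebra over which there are local lifts, with a point over a given prime. -/
theorem exists_finite_lifts [LocallyOfFiniteType f] [LocallyQuasiFinite f] (hf : Subtr.UnivSSubtrusive f)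
    (x : PrimeSpectrum R) :
    ∃ (P : Scheme.{u}) (q : P ⟶ Spec R), IsFinite q ∧ x ∈ Set.range q ∧ LocLifts f q := by
  classical
  let k := FractionRing (R ⧸ x.asIdeal)
  let K := AlgebraicClosure k
  letI : Algebra R K :=
    ((algebraMap k K).comp ((algebraMap (R ⧸ x.asIdeal) k).comp (Ideal.Quotient.mk x.asIdeal))).toAlgebra
  let S := integralClosure (R : Type u) K
  choose s F hsm hint l hl using fun m : PrimeSpectrum S => exists_lift_near f hf K m
  obtain ⟨t, ht⟩ := isCompact_univ.elim_finite_subcover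
    (fun m : PrimeSpectrum S => (PrimeSpectrum.basicOpen (s m) : Set (PrimeSpectrum S)))
    (fun m => (PrimeSpectrum.basicOpen (s m)).2) fun m _ => Set.mem_iUnion.2 ⟨m, hsm m⟩
  let G : Finset K := t.biUnion F ∪ t.image fun m => (s m : K)
  have hG : ∀ a ∈ (G : Set K), IsIntegral (R : Type u) a := fun a ha => by
    rcases Finset.mem_union.1 ha with h | h
    · obtain ⟨m, -, hm⟩ := Finset.mem_biUnion.1 h
      exact hint m a hm
    · obtain ⟨m, -, rfl⟩ := Finset.mem_image.1 h
      exact (s m).2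
  let S₀ := Algebra.adjoin (R : Type u) (G : Set K)
  haveI : Module.Finite (R : Type u) S₀ := Algebra.finite_adjoin_of_finite_of_isIntegral G.finite_toSet hG
  let q : Spec (CommRingCat.of S₀) ⟶ Spec R := Spec.map (CommRingCat.ofHom (algebraMap R S₀))
  haveI : IsFinite q := (IsFinite.SpecMap_iff _).2 (RingHom.finite_algebraMap.2 inferInstance)
  have hS₀ : S₀ ≤ S := Algebra.adjoin_le fun a ha => hG a ha
  refine ⟨_, q, inferInstance, ⟨(⟨⊥, Ideal.bot_prime⟩ : PrimeSpectrum S₀), PrimeSpectrum.ext ?_⟩, fun z => ?_⟩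
  · show (⊥ : Ideal S₀).comap (algebraMap R S₀) = x.asIdeal
    rw [← RingHom.ker_eq_comap_bot, ← RingHom.ker_comp_of_injective (algebraMap R S₀)
      (f := S₀.val.toRingHom) Subtype.val_injective]
    show RingHom.ker ((algebraMap k K).comp ((algebraMap (R ⧸ x.asIdeal) k).comp (Ideal.Quotient.mk x.asIdeal))) = _
    rw [RingHom.ker_comp_of_injective _ (algebraMap k K).injective,
      RingHom.ker_comp_of_injective _ (IsFractionRing.injective _ _), Ideal.mk_ker]
  · letI : Algebra S₀ S := (Subalgebra.inclusion hS₀).toRingHom.toAlgebra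
    haveI : IsScalarTower (R : Type u) S₀ S := IsScalarTower.of_algebraMap_eq fun _ => rfl
    haveI : Algebra.IsIntegral (R : Type u) S := ⟨fun a => (isIntegral_algHom_iff S.val Subtype.val_injective).1 a.2⟩
    haveI : Algebra.IsIntegral S₀ S := Algebra.IsIntegral.tower_top (R := (R : Type u))
    haveI : FaithfulSMul S₀ S :=
      (faithfulSMul_iff_algebraMap_injective S₀ S).2 (Subalgebra.inclusion_injective hS₀)
    obtain ⟨w, hw⟩ := Algebra.IsIntegral.comap_surjective (R := S₀) (S := S) z
    obtain ⟨m, hm, hwm⟩ := Set.mem_iUnion₂.1 (ht (Set.mem_univ w))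
    let σ : S₀ := ⟨(s m : K), Algebra.subset_adjoin (Finset.mem_union_right _ (Finset.mem_image_of_mem _ hm))⟩
    have hz : σ ∉ z.asIdeal := fun h => hwm (by rw [← hw] at h; exact h)
    have hs0 : (s m : K) ≠ 0 := fun h => hz (by rw [show σ = 0 from Subtype.ext h]; exact zero_mem _)
    let L := Localization.Away σ
    let ι : L →ₐ[S₀] K := IsLocalization.Away.liftAlgHom σ (f := Algebra.ofId S₀ K) (isUnit_iff_ne_zero.2 hs0)
    have hι : Function.Injective ι := by
      refine (injective_iff_map_eq_zero ι).2 fun y hy => ?_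
      obtain ⟨⟨a, c⟩, e⟩ := IsLocalization.surj (Submonoid.powers σ) y
      have h1 := congrArg ι e
      rw [map_mul, hy, zero_mul, ι.commutes] at h1
      have ha : a = 0 := Subtype.ext h1.symm
      rw [ha, map_zero] at e
      exact (IsLocalization.map_units L c).mul_left_eq_zero.1 e
    have hle : Algebra.adjoin (R : Type u) ((F m : Set K) ∪ {(s m : K)⁻¹}) ≤ (ι.restrictScalars (R : Type u)).range := by
      refine Algebra.adjoin_le ?_
      rintro a (ha | rfl)
      · exact ⟨algebraMap S₀ L ⟨a, Algebra.subset_adjoin (Finset.mem_union_left _ (Finset.mem_biUnion.2 ⟨m, hm, ha⟩))⟩,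
          ι.commutes _⟩
      · refine ⟨IsLocalization.Away.invSelf σ, ?_⟩
        have h1 : ι (algebraMap S₀ L σ) * ι (IsLocalization.Away.invSelf σ) = 1 := by
          rw [← map_mul, IsLocalization.Away.mul_invSelf, map_one]
        rw [ι.commutes] at h1
        exact eq_inv_of_mul_eq_one_right h1
    let g := (AlgEquiv.ofInjective (ι.restrictScalars (R : Type u)) hι).symm.toAlgHom.comp (Subalgebra.inclusion hle)
    let w' : Spec (CommRingCat.of L) ⟶ Spec (CommRingCat.of S₀) := Spec.map (CommRingCat.ofHom (algebraMap S₀ L))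
    haveI : IsOpenImmersion w' := IsOpenImmersion.of_isLocalization σ
    refine ⟨w'.opensRange, w'.isoOpensRange.inv ≫ Spec.map (CommRingCat.ofHom g.toRingHom) ≫ l m, ?_, ?_⟩
    · show z ∈ Set.range (PrimeSpectrum.comap (algebraMap S₀ L))
      rw [PrimeSpectrum.localization_away_comap_range L σ]
      exact hz
    · rw [Category.assoc, Category.assoc, hl, ← Spec.map_comp, Iso.inv_comp_eq, Scheme.Hom.isoOpensRange_hom_ι_assoc,
        ← Spec.map_comp]
      congr 1
      ext a
      exact (g.commutes a).trans (IsScalarTower.algebraMap_apply (R : Type u) S₀ L a)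

/-- The finite scheme may be taken of finite presentation. -/
theorem exists_finite_lift_model [LocallyOfFinitePresentation f] [LocallyQuasiFinite f]
    (hf : Subtr.UnivSSubtrusive f) (x : PrimeSpectrum R) :
    ∃ (P : Scheme.{u}) (q : P ⟶ Spec R), (IsFinite q ∧ LocallyOfFinitePresentation q) ∧ x ∈ Set.range q ∧
      LocLifts f q := by
  classical
  obtain ⟨P₁, q₁, hq₁, ⟨z₀, hz₀⟩, hlifts⟩ := exists_finite_lifts f hf x
  haveI := hq₁
  haveI : IsAffine P₁ := isAffine_of_isAffineHom q₁
  let φ : R ⟶ Γ(P₁, ⊤) := Spec.preimage (P₁.isoSpec.inv ≫ q₁)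
  haveI : IsFinite (Spec.map φ) := by rw [Spec.map_preimage]; infer_instance
  have hfin : φ.hom.Finite := (IsFinite.SpecMap_iff _).1 ‹_›
  letI : Algebra R Γ(P₁, ⊤) := φ.hom.toAlgebra
  haveI : Module.Finite R Γ(P₁, ⊤) := hfin
  obtain ⟨G, hG⟩ := (Module.Finite.fg_top : (⊤ : Submodule R Γ(P₁, ⊤)).FG)
  let p : G → Polynomial R := fun a => minpoly R (a.1)
  let J : Ideal (MvPolynomial G R) := Ideal.span (Set.range fun a => Polynomial.aeval (MvPolynomial.X a) (p a))
  let E := MvPolynomial G R ⧸ J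
  haveI : Algebra.FinitePresentation R E :=
    Algebra.FinitePresentation.quotient (Submodule.fg_span (Set.finite_range _))
  haveI : Module.Finite R E := by
    have htop : Algebra.adjoin (R : Type u) (Set.range fun a : G => Ideal.Quotient.mkₐ R J (MvPolynomial.X a)) = ⊤ := by
      rw [Set.range_comp', ← AlgHom.map_adjoin, MvPolynomial.adjoin_range_X, Algebra.map_top,
        AlgHom.range_eq_top]
      exact Ideal.Quotient.mk_surjective
    haveI := Algebra.finite_adjoin_of_finite_of_isIntegral (R := (R : Type u))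
      (Set.finite_range fun a : G => Ideal.Quotient.mkₐ R J (MvPolynomial.X a)) (by
        rintro _ ⟨a, rfl⟩
        refine ⟨p a, minpoly.monic (IsIntegral.of_finite R _), ?_⟩
        rw [← Polynomial.aeval_def, Polynomial.aeval_algHom_apply]
        exact Ideal.Quotient.eq_zero_iff_mem.2 (Ideal.subset_span ⟨a, rfl⟩))
    rw [htop] at this
    exact Module.Finite.equiv (Subalgebra.topEquiv (R := (R : Type u)) (A := E)).toLinearEquiv
  let π : E →ₐ[(R : Type u)] Γ(P₁, ⊤) := Ideal.Quotient.liftₐ J (MvPolynomial.aeval fun a : G => a.1) (fun y hy => by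
    induction hy using Submodule.span_induction with
    | mem y hy =>
      obtain ⟨a, rfl⟩ := hy
      rw [← Polynomial.aeval_algHom_apply, MvPolynomial.aeval_X]
      exact minpoly.aeval _ _
    | zero => exact map_zero _
    | add _ _ _ _ h1 h2 => rw [map_add, h1, h2, add_zero]
    | smul c y _ h1 => rw [smul_eq_mul, map_mul, h1, mul_zero])
  have hπ : Function.Surjective π := by
    intro y
    have hy : y ∈ Submodule.span R (G : Set Γ(P₁, ⊤)) := by rw [hG]; trivial
    have : Submodule.span R (G : Set Γ(P₁, ⊤)) ≤ Subalgebra.toSubmodule π.range :=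
      Submodule.span_le.2 fun a ha => ⟨Ideal.Quotient.mkₐ R J (MvPolynomial.X ⟨a, ha⟩),
        MvPolynomial.aeval_X (fun a : G => a.1) ⟨a, ha⟩⟩
    exact this hy
  let i : P₁ ⟶ Spec (CommRingCat.of E) := P₁.isoSpec.hom ≫ Spec.map (CommRingCat.ofHom π.toRingHom)
  haveI : IsClosedImmersion (Spec.map (CommRingCat.ofHom π.toRingHom)) := IsClosedImmersion.spec_of_surjective _ hπ
  let fQ : Spec (CommRingCat.of E) ⟶ Spec R := Spec.map (CommRingCat.ofHom (algebraMap R E))
  haveI : IsFinite fQ := (IsFinite.SpecMap_iff _).2 (RingHom.finite_algebraMap.2 inferInstance)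
  haveI : LocallyOfFinitePresentation fQ := (HasRingHomProperty.Spec_iff (P := @LocallyOfFinitePresentation)).2
    (RingHom.finitePresentation_algebraMap.2 inferInstance)
  have hif : i ≫ fQ = q₁ := by
    have e : CommRingCat.ofHom (algebraMap R E) ≫ CommRingCat.ofHom π.toRingHom = φ := by
      ext a
      exact π.commutes a
    rw [Category.assoc, ← Spec.map_comp, e, Spec.map_preimage, Iso.hom_inv_id_assoc]
  obtain ⟨I, _, _, _, F, c, hc, hobj, ⟨e⟩⟩ := Groth.Agent.S7379.result i
  haveI : IsConnected Iᵒᵖ := IsCofiltered.isConnected _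
  let T := F ⋙ Over.forget (Spec (CommRingCat.of E))
  let cT : Cone T := (Over.forget (Spec (CommRingCat.of E))).mapCone c
  have hcT : IsLimit cT := isLimitOfPreserves (Over.forget (Spec (CommRingCat.of E))) hc
  haveI : ∀ k, IsClosedImmersion (F.obj k).hom := fun k => (hobj k).1
  haveI : ∀ (k l : Iᵒᵖ) (φ : k ⟶ l), IsAffineHom (T.map φ) := fun k l φ => by
    haveI : IsClosedImmersion ((F.map φ).left ≫ (F.obj l).hom) := by rw [Over.w]; infer_instance
    haveI := IsClosedImmersion.of_comp (F.map φ).left (F.obj l).hom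
    exact inferInstanceAs (IsAffineHom (F.map φ).left)
  haveI : ∀ k, CompactSpace (T.obj k) := fun k => QuasiCompact.compactSpace_of_compactSpace (F.obj k).hom
  haveI : CompactSpace cT.pt := by
    exact @Homeomorph.compactSpace _ _ _ _ (inferInstanceAs (CompactSpace P₁)) e.inv.left.homeomorph
  have hjl : ∀ k, cT.π.app k ≫ (F.obj k).hom ≫ fQ = c.pt.hom ≫ fQ := fun k => Over.w_assoc (c.π.app k) fQ
  have he' : e.hom.left ≫ q₁ = c.pt.hom ≫ fQ := by rw [← hif]; exact Over.w_assoc e.hom fQ
  obtain ⟨n, hn⟩ := exists_locLifts_stage T cT hcT f (fun k => (F.obj k).hom ≫ fQ)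
    (fun {l k} φ => Over.w_assoc (F.map φ) fQ) (c.pt.hom ≫ fQ) hjl (fun z => by
      obtain ⟨O, m, hz, hm⟩ := hlifts (e.hom.left z)
      exact ⟨e.hom.left ⁻¹ᵁ O, (e.hom.left ∣_ O) ≫ m, hz, by
        rw [Category.assoc, hm, morphismRestrict_ι_assoc, he']⟩)
  haveI : LocallyOfFinitePresentation (F.obj n).hom := (hobj n).2
  refine ⟨T.obj n, (F.obj n).hom ≫ fQ, ⟨inferInstanceAs (IsFinite ((F.obj n).hom ≫ fQ)),
    inferInstanceAs (LocallyOfFinitePresentation ((F.obj n).hom ≫ fQ))⟩, ⟨cT.π.app n (e.inv.left z₀), ?_⟩, hn⟩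
  have h1 : e.inv.left ≫ cT.π.app n ≫ (F.obj n).hom ≫ fQ = q₁ := by
    rw [hjl, Over.w_assoc e.inv]
    exact hif
  exact (congrArg (fun ψ : P₁ ⟶ Spec R => ψ z₀) h1).trans hz₀

end Groth.Agent.SubtrRef
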