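import Groth.Agent.FlatMisc.ValuationFP
import Groth.Agent.FlatSyz5.Colim
import Mathlib.RingTheory.TensorProduct.DirectLimitFG
import Mathlib.RingTheory.Flat.TorsionFree
import Mathlib.RingTheory.TensorProduct.Quotient

/-! The flat closure of a generic fibre over a valuation ring descends to finitely generated subrings. -/

set_option autoImplicit false
set_option backward.isDefEq.respectTransparency false
set_option backward.isDefEq.respectTransparency.types false
set_option linter.style.haveILetI false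
universe u

open TensorProduct

noncomputable section

namespace Groth.Agent.SubtrRef.FlatClosure

variable {R : Type u} [CommRing R] {K : Type u} [Field K] [Algebra R K] {B : Type u} [CommRing B] [Algebra R B]

variable (B) in
/-- The map to the generic fibre. -/
abbrev toK (A : Subalgebra R K) : A ⊗[R] B →ₐ[R] K ⊗[R] B := Algebra.TensorProduct.map A.val (AlgHom.id R B)

variable (B) in
/-- The closure of the generic fibre is finitely presented and flat. -/
def Good (A : Subalgebra R K) : Prop :=
  (RingHom.ker (toK B A).toRingHom).FG ∧ Module.Flat A ((A ⊗[R] B) ⧸ RingHom.ker (toK B A).toRingHom)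

section bc

variable {A A' : Type u} [CommRing A] [CommRing A'] [Algebra R A] [Algebra R A'] [Algebra A A']
  [IsScalarTower R A A']

/-- Base change of a quotient of a tensor product. -/
def quotEquiv (J : Ideal (A ⊗[R] B)) :
    A' ⊗[A] ((A ⊗[R] B) ⧸ J) ≃ₐ[A'] (A' ⊗[R] B) ⧸
      J.map (Algebra.TensorProduct.map (IsScalarTower.toAlgHom R A A') (AlgHom.id R B)).toRingHom :=
  (Algebra.TensorProduct.tensorQuotientEquiv (R := A) A' (A ⊗[R] B) A' J).trans
    (Ideal.quotientEquivAlg _ _ (Algebra.TensorProduct.cancelBaseChange R A A' A' B) (by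
      erw [Ideal.map_map]
      congr 1
      refine RingHom.ext fun z => ?_
      induction z using TensorProduct.induction_on with
      | zero => simp
      | tmul a b =>
        show algebraMap A A' a ⊗ₜ[R] b =
          Algebra.TensorProduct.cancelBaseChange R A A' A' B ((1 : A') ⊗ₜ[A] (a ⊗ₜ[R] b))
        rw [Algebra.TensorProduct.cancelBaseChange_tmul, Algebra.smul_def, mul_one]
      | add x y hx hy => simp only [map_add, hx, hy]))

theorem flat_baseChange (J : Ideal (A ⊗[R] B)) [Module.Flat A ((A ⊗[R] B) ⧸ J)] :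
    Module.Flat A' ((A' ⊗[R] B) ⧸
      J.map (Algebra.TensorProduct.map (IsScalarTower.toAlgHom R A A') (AlgHom.id R B)).toRingHom) :=
  Module.Flat.of_linearEquiv (quotEquiv (A' := A') J).toLinearEquiv.symm

section closure

variable {A : Type u} [CommRing A] [Algebra R A] [Algebra A K] [IsScalarTower R A K]

/-- A flat quotient with the right generic fibre is the closure of the generic fibre. -/
theorem eq_ker_aux (hinj : Function.Injective (algebraMap A K)) (J : Ideal (A ⊗[R] B))
    (hJ : J ≤ RingHom.ker (Algebra.TensorProduct.map (IsScalarTower.toAlgHom R A K) (AlgHom.id R B)).toRingHom)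
    [Module.Flat A ((A ⊗[R] B) ⧸ J)] :
    J = RingHom.ker (Algebra.TensorProduct.map (IsScalarTower.toAlgHom R A K) (AlgHom.id R B)).toRingHom := by
  refine le_antisymm hJ fun z hz => ?_
  letI : CommRing (K ⊗[A] ((A ⊗[R] B) ⧸ J)) := Algebra.TensorProduct.instCommRing
  let iR := (Algebra.TensorProduct.includeRight (R := A) (A := K) (B := (A ⊗[R] B) ⧸ J)).restrictScalars R
  let Ψ : K ⊗[R] B →ₐ[R] K ⊗[A] ((A ⊗[R] B) ⧸ J) := Algebra.TensorProduct.lift
    ((Algebra.TensorProduct.includeLeft (R := A) (S := A) (A := K) (B := (A ⊗[R] B) ⧸ J)).restrictScalars R)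
    (iR.comp ((Ideal.Quotient.mkₐ R J).comp (Algebra.TensorProduct.includeRight (R := R) (A := A) (B := B))))
    fun _ _ => Commute.all _ _
  have hΨ : ∀ w, Ψ (Algebra.TensorProduct.map (IsScalarTower.toAlgHom R A K) (AlgHom.id R B) w) =
      iR (Ideal.Quotient.mkₐ R J w) := fun w => by
    induction w using TensorProduct.induction_on with
    | zero => simp
    | tmul a b =>
      show Ψ (algebraMap A K a ⊗ₜ[R] b) = _
      rw [Algebra.TensorProduct.lift_tmul]
      show (algebraMap A K a ⊗ₜ[A] (1 : (A ⊗[R] B) ⧸ J)) * ((1 : K) ⊗ₜ[A] Ideal.Quotient.mk J (1 ⊗ₜ b)) =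
        (1 : K) ⊗ₜ[A] Ideal.Quotient.mk J (a ⊗ₜ b)
      rw [Algebra.TensorProduct.tmul_mul_tmul, mul_one, one_mul,
        Algebra.algebraMap_eq_smul_one, TensorProduct.smul_tmul]
      congr 1
      show Ideal.Quotient.mk J (a • ((1 : A) ⊗ₜ[R] b)) = _
      rw [TensorProduct.smul_tmul', smul_eq_mul, mul_one]
    | add x y hx hy => simp only [map_add, hx, hy]
  have h1 : iR (Ideal.Quotient.mkₐ R J z) = 0 := by
    rw [← hΨ, show Algebra.TensorProduct.map (IsScalarTower.toAlgHom R A K) (AlgHom.id R B) z = 0 from hz, map_zero]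
  have h2 : Function.Injective (Algebra.TensorProduct.includeRight (R := A) (A := K) (B := (A ⊗[R] B) ⧸ J)) :=
    Algebra.TensorProduct.includeRight_injective hinj
  refine Ideal.Quotient.eq_zero_iff_mem.1 (h2 ?_)
  rw [map_zero]
  exact h1

end closure

end bc

/-- A flat quotient with the right generic fibre is the closure of the generic fibre. -/
theorem eq_ker_of_flat (A : Subalgebra R K) (J : Ideal (A ⊗[R] B)) (hJ : J ≤ RingHom.ker (toK B A).toRingHom)
    [Module.Flat A ((A ⊗[R] B) ⧸ J)] : J = RingHom.ker (toK B A).toRingHom := by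
  letI : Algebra A K := A.val.toRingHom.toAlgebra
  haveI : IsScalarTower R A K := IsScalarTower.of_algebraMap_eq fun _ => rfl
  have e : (Algebra.TensorProduct.map (IsScalarTower.toAlgHom R A K) (AlgHom.id R B)).toRingHom =
      (toK B A).toRingHom := by
    refine RingHom.ext fun z => ?_
    induction z using TensorProduct.induction_on with
    | zero => simp
    | tmul a b => rfl
    | add x y hx hy => simp only [map_add, hx, hy]
  rw [← e] at hJ ⊢
  exact eq_ker_aux Subtype.val_injective J hJ

/-- Flat closures persist in bigger subrings. -/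
theorem Good.mono {A A' : Subalgebra R K} (h : Good B A) (hle : A ≤ A') : Good B A' := by
  letI : Algebra A A' := (Subalgebra.inclusion hle).toRingHom.toAlgebra
  haveI : IsScalarTower R A A' := IsScalarTower.of_algebraMap_eq fun _ => rfl
  haveI := h.2
  let ι := Algebra.TensorProduct.map (IsScalarTower.toAlgHom R A A') (AlgHom.id R B)
  haveI := flat_baseChange (A' := A') (RingHom.ker (toK B A).toRingHom)
  have hcomp : ∀ z, toK B A' (ι z) = toK B A z := fun z => by
    induction z using TensorProduct.induction_on with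
    | zero => simp
    | tmul a b => rfl
    | add x y hx hy => simp only [map_add, hx, hy]
  have hJ : (RingHom.ker (toK B A).toRingHom).map ι.toRingHom ≤ RingHom.ker (toK B A').toRingHom :=
    Ideal.map_le_iff_le_comap.2 fun z hz => show toK B A' (ι z) = 0 by rw [hcomp]; exact hz
  have e := eq_ker_of_flat A' _ hJ
  exact ⟨e ▸ h.1.map _, e ▸ (inferInstanceAs (Module.Flat A' ((A' ⊗[R] B) ⧸
    (RingHom.ker (toK B A).toRingHom).map ι.toRingHom)))⟩

/-- A field valued point of the tensor product extending to the generic fibre kills the kernel. -/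
theorem eq_zero_of_compat (A : Subalgebra R K) {M : Type u} [CommRing M] (iK : K →+* M) (θ : A ⊗[R] B →+* M)
    (h : ∀ a : A, θ (algebraMap A (A ⊗[R] B) a) = iK (a : K)) {z : A ⊗[R] B}
    (hz : z ∈ RingHom.ker (toK B A).toRingHom) : θ z = 0 := by
  letI : Algebra R M := (iK.comp (algebraMap R K)).toAlgebra
  let jK : K →ₐ[R] M := { iK with commutes' := fun _ => rfl }
  let jB : B →ₐ[R] M :=
    { θ.comp (Algebra.TensorProduct.includeRight (R := R) (A := A) (B := B)).toRingHom with
      commutes' := fun r => by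
        show θ ((1 : A) ⊗ₜ[R] algebraMap R B r) = iK (algebraMap R K r)
        rw [show ((1 : A) ⊗ₜ[R] algebraMap R B r : A ⊗[R] B) = algebraMap A (A ⊗[R] B) (algebraMap R A r) by
          rw [Algebra.TensorProduct.algebraMap_apply, Algebra.algebraMap_self_apply,
            Algebra.algebraMap_eq_smul_one, Algebra.algebraMap_eq_smul_one, TensorProduct.tmul_smul,
            TensorProduct.smul_tmul'], h]
        rfl }
  let ψ : K ⊗[R] B →ₐ[R] M := Algebra.TensorProduct.lift jK jB fun _ _ => Commute.all _ _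
  have hψ : ∀ w, ψ (toK B A w) = θ w := fun w => by
    induction w using TensorProduct.induction_on with
    | zero => simp
    | tmul a b =>
      refine (Algebra.TensorProduct.lift_tmul (f := jK) (g := jB) (hfg := fun _ _ => Commute.all _ _) (a : K) b).trans ?_
      show iK (a : K) * θ ((1 : A) ⊗ₜ[R] b) = _
      rw [← h, ← map_mul]
      congr 1
      rw [Algebra.TensorProduct.algebraMap_apply, Algebra.TensorProduct.tmul_mul_tmul, mul_one, one_mul]
      rfl
    | add x y hx hy => simp only [map_add, hx, hy]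
  rw [← hψ, show toK B A z = 0 from hz, map_zero]

/-- When the structure map is open, the closure of the generic fibre is everything set-theoretically. -/
theorem ker_le_nilradical (A : Subalgebra R K)
    (hopen : IsOpenMap (PrimeSpectrum.comap (algebraMap A (A ⊗[R] B)))) :
    RingHom.ker (toK B A).toRingHom ≤ nilradical (A ⊗[R] B) := by
  intro z hz
  rw [nilradical_eq_sInf, Ideal.mem_sInf]
  intro p hp
  by_contra hzp
  have hne : (PrimeSpectrum.comap (algebraMap A (A ⊗[R] B)) '' PrimeSpectrum.basicOpen z).Nonempty :=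
    ⟨_, ⟨p, hp⟩, hzp, rfl⟩
  obtain ⟨w, hw⟩ := hne
  obtain ⟨q, hq, hq0⟩ : (⟨⊥, Ideal.isPrime_bot⟩ : PrimeSpectrum A) ∈
      PrimeSpectrum.comap (algebraMap A (A ⊗[R] B)) '' PrimeSpectrum.basicOpen z :=
    Specializes.mem_open ((PrimeSpectrum.le_iff_specializes _ w).1 bot_le)
      (hopen _ (PrimeSpectrum.basicOpen z).2) hw
  let L := q.asIdeal.ResidueField
  let θ : A ⊗[R] B →+* L := algebraMap _ L
  have hker : RingHom.ker θ = q.asIdeal := Ideal.ker_algebraMap_residueField _
  have hinj : Function.Injective (θ.comp (algebraMap A (A ⊗[R] B))) := by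
    rw [RingHom.injective_iff_ker_eq_bot, ← RingHom.comap_ker, hker]
    exact congrArg PrimeSpectrum.asIdeal hq0
  let F := FractionRing A
  letI : Algebra F L := (IsFractionRing.lift (A := A) (K := F) hinj).toAlgebra
  letI : Algebra F K := (IsFractionRing.lift (A := A) (K := F) (g := A.val.toRingHom) Subtype.val_injective).toAlgebra
  haveI : Nontrivial (K ⊗[F] L) := inferInstance
  obtain ⟨m, hm⟩ := Ideal.exists_maximal (K ⊗[F] L)
  let M := (K ⊗[F] L) ⧸ m
  letI : Field M := Ideal.Quotient.field m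
  let iK : K →+* M := (Ideal.Quotient.mk m).comp Algebra.TensorProduct.includeLeftRingHom
  let iL : L →+* M := (Ideal.Quotient.mk m).comp
    (Algebra.TensorProduct.includeRight (R := F) (A := K) (B := L)).toRingHom
  have hA : ∀ a : A, iL (θ (algebraMap A (A ⊗[R] B) a)) = iK (a : K) := fun a => by
    have e1 : algebraMap F L (algebraMap A F a) = θ (algebraMap A (A ⊗[R] B) a) := IsFractionRing.lift_algebraMap hinj a
    have e2 : algebraMap F K (algebraMap A F a) = (a : K) := IsFractionRing.lift_algebraMap _ a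
    rw [← e1, ← e2]
    show Ideal.Quotient.mk m ((1 : K) ⊗ₜ[F] algebraMap F L _) = Ideal.Quotient.mk m (algebraMap F K _ ⊗ₜ[F] (1 : L))
    exact congrArg (Ideal.Quotient.mk m) (Algebra.TensorProduct.tmul_one_eq_one_tmul (R := F) (A := K) (B := L) _).symm
  apply hq
  rw [← hker, RingHom.mem_ker]
  apply iL.injective
  rw [map_zero]
  exact eq_zero_of_compat A iK (iL.comp θ) hA hz

/-- A valuation subring over the base as a subalgebra. -/
def ofValuation (V : ValuationSubring K) (hV : Set.range (algebraMap R K) ⊆ V) : Subalgebra R K :=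
  { V.toSubring with algebraMap_mem' := fun x => hV ⟨x, rfl⟩ }

/-- Over a valuation ring the closure of the generic fibre is flat and of finite presentation. -/
theorem good_ofValuation [Algebra.FinitePresentation R B] (V : ValuationSubring K)
    (hV : Set.range (algebraMap R K) ⊆ V) : Good B (ofValuation V hV) := by
  let A := ofValuation (R := R) V hV
  haveI : ValuationRing A := inferInstanceAs (ValuationRing V)
  let J := RingHom.ker (toK B A).toRingHom
  have hsmul : ∀ (a : A) (z : A ⊗[R] B), toK B A (a • z) = (a : K) • toK B A z := fun a z => by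
    induction z using TensorProduct.induction_on with
    | zero => simp
    | tmul c b =>
      rw [TensorProduct.smul_tmul']
      show ((a * c : A) : K) ⊗ₜ[R] b = (a : K) • ((c : K) ⊗ₜ[R] b)
      rw [TensorProduct.smul_tmul', smul_eq_mul]
      rfl
    | add x y hx hy => simp only [smul_add, map_add, hx, hy]
  haveI : Module.Flat A ((A ⊗[R] B) ⧸ J) := by
    rw [Module.Flat.flat_iff_torsion_eq_bot_of_isBezout, eq_bot_iff]
    rintro y ⟨⟨a, ha⟩, hay⟩
    obtain ⟨z, rfl⟩ := Ideal.Quotient.mk_surjective y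
    have h0 : Ideal.Quotient.mk J (a • z) = 0 := hay
    have h : toK B A (a • z) = 0 := Ideal.Quotient.eq_zero_iff_mem.1 h0
    rw [hsmul] at h
    have ha0 : (a : K) ≠ 0 := fun e => nonZeroDivisors.ne_zero ha (Subtype.ext e)
    rw [Submodule.mem_bot, Ideal.Quotient.eq_zero_iff_mem]
    exact (smul_eq_zero.1 h).resolve_left ha0
  haveI : Algebra.FiniteType A ((A ⊗[R] B) ⧸ J) :=
    Algebra.FiniteType.of_surjective (Ideal.Quotient.mkₐ A J) Ideal.Quotient.mk_surjective
  haveI := FlatMisc.ValuationFP.algebra_finitePresentation (R := A) (A := (A ⊗[R] B) ⧸ J)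
  refine ⟨?_, inferInstanceAs (Module.Flat A ((A ⊗[R] B) ⧸ J))⟩
  have h := Algebra.FinitePresentation.ker_fG_of_surjective (R := A) (A := A ⊗[R] B) (B := (A ⊗[R] B) ⧸ J) (Ideal.Quotient.mkₐ A J) (Ideal.Quotient.mkₐ_surjective A J)
  have e : RingHom.ker (Ideal.Quotient.mkₐ A J).toRingHom = J := Ideal.Quotient.mkₐ_ker A J
  show J.FG
  rw [← e]
  exact h

/-- Flat closures over valuation rings come from finitely many elements. -/
theorem exists_finset [Algebra.FinitePresentation R B] (V : ValuationSubring K)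
    (hV : Set.range (algebraMap R K) ⊆ V) :
    ∃ s : Finset K, (s : Set K) ⊆ V ∧ Good B (Algebra.adjoin R (s : Set K)) := by
  classical
  let A := ofValuation (R := R) V hV
  obtain ⟨hfg, hflat⟩ := good_ofValuation (B := B) V hV
  obtain ⟨T, hT⟩ := hfg
  -- the generators come from a stage
  have hle : ∀ s : Finset K, (s : Set K) ⊆ V → Algebra.adjoin R (s : Set K) ≤ A := fun s hs =>
    Algebra.adjoin_le hs
  let S₀ := {s : Finset K // (s : Set K) ⊆ V}
  let ι₀ : ∀ s : S₀, Algebra.adjoin R (s.1 : Set K) ⊗[R] B →ₐ[R] A ⊗[R] B := fun s =>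
    Algebra.TensorProduct.map (Subalgebra.inclusion (hle s.1 s.2)) (AlgHom.id R B)
  have hι₀ : ∀ (s t : S₀) (hst : s.1 ⊆ t.1) (u),
      ι₀ t (Algebra.TensorProduct.map (Subalgebra.inclusion (Algebra.adjoin_mono (R := R) (Finset.coe_subset.2 hst)))
        (AlgHom.id R B) u) = ι₀ s u := fun s t hst u => by
    induction u using TensorProduct.induction_on with
    | zero => simp
    | tmul a b => rfl
    | add x y hx hy => simp only [map_add, hx, hy]
  have hrange : ∀ z : A ⊗[R] B, ∃ s : S₀, z ∈ Set.range (ι₀ s) := fun z => by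
    induction z using TensorProduct.induction_on with
    | zero => exact ⟨⟨∅, by simp⟩, 0, map_zero _⟩
    | tmul a b =>
      exact ⟨⟨{(a : K)}, fun c hc => by rw [Finset.mem_singleton.1 (Finset.mem_coe.1 hc)]; exact a.2⟩,
        (⟨(a : K), Algebra.subset_adjoin (Finset.mem_singleton_self (a : K))⟩ : Algebra.adjoin R _) ⊗ₜ b, rfl⟩
    | add x y hx hy =>
      obtain ⟨s, x', rfl⟩ := hx
      obtain ⟨t, y', rfl⟩ := hy
      let w : S₀ := ⟨s.1 ∪ t.1, by rw [Finset.coe_union]; exact Set.union_subset s.2 t.2⟩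
      refine ⟨w,
        Algebra.TensorProduct.map (Subalgebra.inclusion (Algebra.adjoin_mono (R := R)
          (Finset.coe_subset.2 (Finset.subset_union_left (s₁ := s.1) (s₂ := t.1))))) (AlgHom.id R B) x' +
        Algebra.TensorProduct.map (Subalgebra.inclusion (Algebra.adjoin_mono (R := R)
          (Finset.coe_subset.2 (Finset.subset_union_right (s₁ := s.1) (s₂ := t.1))))) (AlgHom.id R B) y', ?_⟩
      exact ((ι₀ w).map_add _ _).trans (congrArg₂ (· + ·) (hι₀ s w Finset.subset_union_left x') (hι₀ t w Finset.subset_union_right y'))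
  choose sg hsg using hrange
  let s₀ : Finset K := T.biUnion fun z => (sg z).1
  have hs₀ : (s₀ : Set K) ⊆ V := fun a ha => by
    obtain ⟨z, -, hz⟩ := Finset.mem_biUnion.1 ha
    exact (sg z).2 hz
  let A₀ := Algebra.adjoin R (s₀ : Set K)
  have hlift : ∀ z : T, ∃ u, ι₀ ⟨s₀, hs₀⟩ u = z.1 := fun z => by
    obtain ⟨u, hu⟩ := hsg z.1
    exact ⟨_, (hι₀ (sg z.1) ⟨s₀, hs₀⟩ (Finset.subset_biUnion_of_mem (fun z => (sg z).1) z.2) u).trans hu⟩
  choose u hu using hlift
  let J₀ : Ideal (A₀ ⊗[R] B) := Ideal.span (Set.range u)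
  letI : Algebra A₀ A := (Subalgebra.inclusion (hle s₀ hs₀)).toRingHom.toAlgebra
  haveI : IsScalarTower R A₀ A := IsScalarTower.of_algebraMap_eq fun _ => rfl
  have hJ₀ : J₀.map (Algebra.TensorProduct.map (IsScalarTower.toAlgHom R A₀ A) (AlgHom.id R B)).toRingHom =
      RingHom.ker (toK B A).toRingHom := by
    rw [← hT, Ideal.map_span]
    congr 1
    ext z
    constructor
    · rintro ⟨_, ⟨y, rfl⟩, rfl⟩
      exact (hu y).symm ▸ y.2
    · exact fun hz => ⟨_, ⟨⟨z, hz⟩, rfl⟩, hu ⟨z, hz⟩⟩
  haveI : Algebra.FinitePresentation A₀ ((A₀ ⊗[R] B) ⧸ J₀) :=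
    Algebra.FinitePresentation.quotient (Submodule.fg_span (Set.finite_range _))
  have hflat₀ : Module.Flat A (A ⊗[A₀] ((A₀ ⊗[R] B) ⧸ J₀)) := by
    haveI : Module.Flat A ((A ⊗[R] B) ⧸
      J₀.map (Algebra.TensorProduct.map (IsScalarTower.toAlgHom R A₀ A) (AlgHom.id R B)).toRingHom) := by
      rw [hJ₀]; exact hflat
    exact Module.Flat.of_linearEquiv (quotEquiv (A' := A) J₀).toLinearEquiv
  let ι := {s : Finset K // s₀ ⊆ s ∧ (s : Set K) ⊆ V}
  let G : ι → Type u := fun s => Algebra.adjoin R (s.1 : Set K)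
  letI : ∀ s : ι, Algebra A₀ (G s) := fun s =>
    (Subalgebra.inclusion (Algebra.adjoin_mono (Finset.coe_subset.2 s.2.1))).toRingHom.toAlgebra
  letI : ∀ s : ι, Algebra (G s) A := fun s => (Subalgebra.inclusion (hle s.1 s.2.2)).toRingHom.toAlgebra
  haveI : ∀ s : ι, IsScalarTower A₀ (G s) A := fun s => IsScalarTower.of_algebraMap_eq fun _ => rfl
  let g : ∀ i j : ι, i ≤ j → G i →ₐ[A₀] G j := fun i j h =>
    { (Subalgebra.inclusion (Algebra.adjoin_mono (R := R) (Finset.coe_subset.2 (show i.1 ⊆ j.1 from h)))).toRingHom with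
      commutes' := fun _ => rfl }
  have hcolim : FlatCA.IsDirectedColimitRing G (fun i j h => (g i j h).toRingHom) A :=
    ⟨⟨fun i j => ⟨⟨i.1 ∪ j.1, i.2.1.trans Finset.subset_union_left,
        by rw [Finset.coe_union]; exact Set.union_subset i.2.2 j.2.2⟩, Finset.subset_union_left, Finset.subset_union_right⟩⟩,
      ⟨⟨s₀, Finset.Subset.refl _, hs₀⟩⟩, fun _ => rfl, fun _ _ _ _ _ => rfl, fun _ _ _ => rfl,
      fun a => ⟨⟨insert (a : K) s₀, Finset.subset_insert _ _,
        by rw [Finset.coe_insert]; exact Set.insert_subset a.2 hs₀⟩,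
        ⟨(a : K), Algebra.subset_adjoin (Finset.mem_insert_self (a : K) s₀)⟩, rfl⟩,
      fun i x hx => ⟨i, le_rfl, by
        have hx' : x = 0 := Subalgebra.inclusion_injective (hle i.1 i.2.2) (hx.trans (map_zero _).symm)
        subst hx'
        exact map_zero _⟩⟩
  obtain ⟨i, hi⟩ := FlatSyz5.exists_flat_stage G g A hcolim (B₀ := (A₀ ⊗[R] B) ⧸ J₀) ((A₀ ⊗[R] B) ⧸ J₀) hflat₀
  let A₁ := Algebra.adjoin R (i.1 : Set K)
  letI : Algebra A₀ A₁ := inferInstanceAs (Algebra A₀ (G i))
  haveI : IsScalarTower R A₀ A₁ := IsScalarTower.of_algebraMap_eq fun _ => rfl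
  let ι₁ := Algebra.TensorProduct.map (IsScalarTower.toAlgHom R A₀ A₁) (AlgHom.id R B)
  haveI : Module.Flat A₁ (A₁ ⊗[A₀] ((A₀ ⊗[R] B) ⧸ J₀)) := hi
  haveI : Module.Flat A₁ ((A₁ ⊗[R] B) ⧸ J₀.map ι₁.toRingHom) :=
    Module.Flat.of_linearEquiv (quotEquiv (A' := A₁) J₀).toLinearEquiv.symm
  have hcomp : ∀ z, toK B A₁ (ι₁ z) =
      toK B A (Algebra.TensorProduct.map (IsScalarTower.toAlgHom R A₀ A) (AlgHom.id R B) z) := fun z => by
    induction z using TensorProduct.induction_on with
    | zero => simp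
    | tmul a b => rfl
    | add x y hx hy => simp only [map_add, hx, hy]
  have hJ : J₀.map ι₁.toRingHom ≤ RingHom.ker (toK B A₁).toRingHom :=
    Ideal.map_le_iff_le_comap.2 fun z hz => show toK B A₁ (ι₁ z) = 0 by
      rw [hcomp]
      have h := Ideal.mem_map_of_mem (Algebra.TensorProduct.map (IsScalarTower.toAlgHom R A₀ A) (AlgHom.id R B)).toRingHom hz
      rw [hJ₀] at h
      exact h
  have e := eq_ker_of_flat A₁ _ hJ
  refine ⟨i.1, i.2.2, e ▸ Ideal.FG.map (Submodule.fg_span (Set.finite_range u)) _, ?_⟩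
  exact e ▸ (inferInstanceAs (Module.Flat A₁ ((A₁ ⊗[R] B) ⧸ J₀.map ι₁.toRingHom)))

/-- Finitely many algebras at once. -/
theorem exists_finset_all {σ : Type u} [Finite σ] (B : σ → Type u) [∀ i, CommRing (B i)] [∀ i, Algebra R (B i)]
    [∀ i, Algebra.FinitePresentation R (B i)] (V : ValuationSubring K) (hV : Set.range (algebraMap R K) ⊆ V) :
    ∃ s : Finset K, (s : Set K) ⊆ V ∧ ∀ i, Good (B i) (Algebra.adjoin R (s : Set K)) := by
  classical
  haveI := Fintype.ofFinite σ
  choose s hs hG using fun i => exists_finset (B := B i) V hV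
  refine ⟨Finset.univ.biUnion s, fun a ha => ?_, fun i => (hG i).mono (Algebra.adjoin_mono ?_)⟩
  · obtain ⟨i, -, hi⟩ := Finset.mem_biUnion.1 ha
    exact hs i hi
  · exact Finset.coe_subset.2 (Finset.subset_biUnion_of_mem s (Finset.mem_univ i))

end Groth.Agent.SubtrRef.FlatClosure
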