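import Groth.Agent.SubtrRef.FlatClosure
import Groth.Agent.EtRep9.ValModel
import Groth.Agent.ModPairLib.CoprodAdm
import Groth.Agent.MorLib.Descend
import Mathlib.AlgebraicGeometry.Morphisms.UniversallyOpen
import Mathlib.AlgebraicGeometry.IdealSheaf.Functorial

/-! Universally open morphisms become flat, up to nilimmersion, over a proper model. -/

set_option autoImplicit false
set_option backward.isDefEq.respectTransparency false
set_option backward.isDefEq.respectTransparency.types false
set_option linter.style.haveILetI false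
universe u

open CategoryTheory CategoryTheory.Limits AlgebraicGeometry IsLocalRing TensorProduct Groth.Agent.EtRep9

noncomputable section

namespace Groth.Agent.SubtrRef

/-- A morphism is flattened by a surjective finitely presented closed immersion. -/
def Flattened {W T : Scheme.{u}} (g : W ⟶ T) : Prop :=
  ∃ (Z : Scheme.{u}) (r : Z ⟶ W), IsClosedImmersion r ∧ LocallyOfFinitePresentation r ∧ Surjective r ∧ Flat (r ≫ g)

theorem mem_range_SpecMap_mk {S : Type u} [CommRing S] (J : Ideal S) (y : PrimeSpectrum S) (h : J ≤ y.asIdeal) :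
    y ∈ Set.range (Spec.map (CommRingCat.ofHom (Ideal.Quotient.mk J))) := by
  show y ∈ Set.range (PrimeSpectrum.comap (Ideal.Quotient.mk J))
  rw [range_comap_of_surjective _ _ Ideal.Quotient.mk_surjective, Ideal.mk_ker]
  exact h

theorem flat_mk_comp (A : Type u) {S : Type u} [CommRing A] [CommRing S] [Algebra A S]
    (J : Ideal S) (h : Module.Flat A (S ⧸ J)) :
    Flat (Spec.map (CommRingCat.ofHom (Ideal.Quotient.mk J)) ≫ Spec.map (CommRingCat.ofHom (algebraMap A S))) := by
  rw [← Spec.map_comp]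
  exact (HasRingHomProperty.Spec_iff (P := @Flat)).2 (RingHom.flat_algebraMap_iff.2 h)

/-- The ideal sheaf of a morphism of spectra only depends on the kernel. -/
theorem ker_SpecMap_eq {S T T' : CommRingCat.{u}} (φ : S ⟶ T) (ψ : S ⟶ T')
    (h : RingHom.ker φ.hom = RingHom.ker ψ.hom) : (Spec.map φ).ker = (Spec.map ψ).ker := by
  have key : ∀ {T : CommRingCat.{u}} (φ : S ⟶ T), RingHom.ker (Spec.map φ).appTop.hom =
      (RingHom.ker φ.hom).comap (Scheme.ΓSpecIso S).hom.hom := fun {T} φ => by
    ext x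
    simp only [RingHom.mem_ker, Ideal.mem_comap]
    have e : (Scheme.ΓSpecIso T).hom ((Spec.map φ).appTop x) = φ ((Scheme.ΓSpecIso S).hom x) :=
      congr(($(Scheme.ΓSpecIso_naturality φ)).hom x)
    rw [← e]
    exact (map_eq_zero_iff _ (Scheme.ΓSpecIso T).commRingCatIsoToRingEquiv.injective).symm
  refine Scheme.IdealSheafData.ext_of_isAffine ?_
  rw [Scheme.Hom.ker_apply, Scheme.Hom.ker_apply]
  show RingHom.ker (Spec.map φ).appTop.hom = RingHom.ker (Spec.map ψ).appTop.hom
  rw [key, key, h]

/-- The closure of a point of a scheme-theoretically dominant model, on an affine open. -/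
theorem exists_chart_subalgebra {K : Type u} [Field K] {S P : Scheme.{u}} (q : P ⟶ S)
    (η : Spec (CommRingCat.of K) ⟶ P) (happ : ∀ U : P.Opens, Function.Injective (η.app U).hom)
    {R : CommRingCat.{u}} (k : Spec R ⟶ S) [Algebra R K] (s : Finset K) (O : P.Opens)
    (m : (O : Scheme.{u}) ⟶ Spec (CommRingCat.of (Algebra.adjoin (R : Type u) (s : Set K))))
    (hm : m ≫ Spec.map (CommRingCat.ofHom (algebraMap R (Algebra.adjoin (R : Type u) (s : Set K)))) ≫ k = O.ι ≫ q)
    (hmη : ∀ η' : Spec (CommRingCat.of K) ⟶ O, η' ≫ O.ι = η →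
      η' ≫ m = Spec.map (CommRingCat.ofHom (Algebra.adjoin (R : Type u) (s : Set K)).val.toRingHom))
    (W : P.Opens) (hW : IsAffineOpen W) (hWO : W ≤ O) (hne : (W : Set P).Nonempty) :
    ∃ (A : Subalgebra (R : Type u) K) (a : Spec (CommRingCat.of A) ⟶ P), Algebra.adjoin (R : Type u) (s : Set K) ≤ A ∧
      IsOpenImmersion a ∧ Set.range a = W ∧
      a ≫ q = Spec.map (CommRingCat.ofHom (algebraMap R A)) ≫ k ∧
      Spec.map (CommRingCat.ofHom A.val.toRingHom) ≫ a = η := by
  have hηW : η ⁻¹ᵁ W = ⊤ := by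
    refine TopologicalSpace.Opens.ext (Set.eq_univ_of_forall fun z => ?_)
    by_contra hz
    obtain ⟨w, hw⟩ := hne
    have hbot : η ⁻¹ᵁ W = ⊥ := TopologicalSpace.Opens.ext (Set.eq_empty_of_forall_notMem fun z' hz' => hz
      (by rwa [Subsingleton.elim z z']))
    have h01 : (1 : Γ(P, W)) = 0 := happ W (by
      haveI : Subsingleton Γ(Spec (CommRingCat.of K), η ⁻¹ᵁ W) := by
        rw [hbot]
        exact CommRingCat.subsingleton_of_isTerminal (Spec (CommRingCat.of K)).sheaf.isTerminalOfEmpty
      exact Subsingleton.elim _ _)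
    have := congrArg (P.presheaf.germ W w hw) h01
    rw [map_one, map_zero] at this
    exact one_ne_zero this
  let φ : Γ(P, W) ⟶ CommRingCat.of K := η.appLE W ⊤ hηW.ge ≫ (Scheme.ΓSpecIso (CommRingCat.of K)).hom
  have hφ : Spec.map φ ≫ hW.fromSpec = η := by
    rw [Spec.map_comp, Category.assoc, IsAffineOpen.SpecMap_appLE_fromSpec η hW (isAffineOpen_top _),
      IsAffineOpen.fromSpec_top, Scheme.isoSpec_Spec_inv, ← Spec.map_comp_assoc, Iso.inv_hom_id, Spec.map_id,
      Category.id_comp]
  have hinj : Function.Injective φ.hom := by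
    refine ((Scheme.ΓSpecIso (CommRingCat.of K)).commRingCatIsoToRingEquiv.injective).comp
      (f := (η.appLE W ⊤ hηW.ge).hom) ?_
    haveI : IsIso ((Spec (CommRingCat.of K)).presheaf.map (homOfLE hηW.ge).op) := by
      rw [Subsingleton.elim (homOfLE hηW.ge).op (eqToHom (congrArg Opposite.op hηW))]; infer_instance
    exact ((ConcreteCategory.bijective_of_isIso
      ((Spec (CommRingCat.of K)).presheaf.map (homOfLE hηW.ge).op)).1).comp (happ W)
  let aO : Spec Γ(P, W) ⟶ (O : Scheme.{u}) := IsOpenImmersion.lift O.ι hW.fromSpec (by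
    rw [Scheme.Opens.range_ι, hW.range_fromSpec]; exact hWO)
  have haO : aO ≫ O.ι = hW.fromSpec := IsOpenImmersion.lift_fac _ _ _
  let c := Spec.preimage (aO ≫ m)
  have hc : c ≫ φ = CommRingCat.ofHom (Algebra.adjoin (R : Type u) (s : Set K)).val.toRingHom := Spec.map_injective (by
    rw [Spec.map_comp, Spec.map_preimage, ← Category.assoc]
    exact hmη _ (by rw [Category.assoc, haO, hφ]))
  have hcy : ∀ y : Algebra.adjoin (R : Type u) (s : Set K), φ.hom (c.hom y) = (y : K) := fun y =>
    congr(($hc).hom y)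
  let A : Subalgebra (R : Type u) K :=
    { φ.hom.range with algebraMap_mem' := fun x =>
      ⟨c.hom (algebraMap R (Algebra.adjoin (R : Type u) (s : Set K)) x), hcy _⟩ }
  have hle : Algebra.adjoin (R : Type u) (s : Set K) ≤ A := fun x hx => ⟨c.hom ⟨x, hx⟩, hcy ⟨x, hx⟩⟩
  let e : Γ(P, W) ≅ CommRingCat.of A := (RingEquiv.ofBijective φ.hom.rangeRestrict
    ⟨fun a b hab => hinj (congrArg Subtype.val hab), φ.hom.rangeRestrict_surjective⟩).toCommRingCatIso
  refine ⟨A, Spec.map e.hom ≫ hW.fromSpec, hle, inferInstance, ?_, ?_, ?_⟩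
  · rw [Scheme.Hom.comp_base, TopCat.coe_comp, Set.range_comp,
      Set.range_eq_univ.2 (Spec.map e.hom).surjective, Set.image_univ, hW.range_fromSpec]
  · have h2 : CommRingCat.ofHom (algebraMap R (Algebra.adjoin (R : Type u) (s : Set K))) ≫ c ≫ e.hom =
        CommRingCat.ofHom (algebraMap R A) := by
      ext x
      exact hcy (algebraMap R (Algebra.adjoin (R : Type u) (s : Set K)) x)
    rw [Category.assoc, ← haO, Category.assoc, ← hm, ← h2, Spec.map_comp, Spec.map_comp, Spec.map_preimage]
    simp only [Category.assoc]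
  · have h3 : e.hom ≫ CommRingCat.ofHom A.val.toRingHom = φ := rfl
    rw [← Spec.map_comp_assoc, h3, hφ]

/-- The chart of the pullback given by a chart of the source and one of the model. -/
theorem exists_chart {R A B : Type u} [CommRing R] [CommRing A] [CommRing B] [Algebra R A] [Algebra R B]
    {X P S : Scheme.{u}} (f : X ⟶ S) (q : P ⟶ S) (k : Spec (CommRingCat.of R) ⟶ S) [IsOpenImmersion k]
    (b : Spec (CommRingCat.of B) ⟶ X) [IsOpenImmersion b] (a : Spec (CommRingCat.of A) ⟶ P) [IsOpenImmersion a]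
    (hb : b ≫ f = Spec.map (CommRingCat.ofHom (algebraMap R B)) ≫ k)
    (ha : a ≫ q = Spec.map (CommRingCat.ofHom (algebraMap R A)) ≫ k) :
    ∃ w : Spec (CommRingCat.of (A ⊗[R] B)) ⟶ pullback f q, IsOpenImmersion w ∧
      w ≫ pullback.fst f q =
        Spec.map (CommRingCat.ofHom (Algebra.TensorProduct.includeRight (R := R) (A := A) (B := B)).toRingHom) ≫ b ∧
      w ≫ pullback.snd f q = Spec.map (CommRingCat.ofHom (algebraMap A (A ⊗[R] B))) ≫ a ∧
      Set.range w = pullback.fst f q ⁻¹' Set.range b ∩ pullback.snd f q ⁻¹' Set.range a := by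
  let fA := Spec.map (CommRingCat.ofHom (algebraMap R A))
  let fB := Spec.map (CommRingCat.ofHom (algebraMap R B))
  let M : pullback fB fA ⟶ pullback f q := pullback.map _ _ _ _ b a k hb.symm ha.symm
  let e : Spec (CommRingCat.of (A ⊗[R] B)) ≅ pullback fB fA :=
    (pullbackSpecIso R A B).symm ≪≫ pullbackSymmetry _ _
  have h1 : e.hom ≫ pullback.fst fB fA =
      Spec.map (CommRingCat.ofHom (Algebra.TensorProduct.includeRight (R := R) (A := A) (B := B)).toRingHom) := by
    simp [e, fA, fB]
  have h2 : e.hom ≫ pullback.snd fB fA = Spec.map (CommRingCat.ofHom (algebraMap A (A ⊗[R] B))) := by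
    simp only [e, fA, fB, Iso.trans_hom, Iso.symm_hom, Category.assoc, pullbackSymmetry_hom_comp_snd,
      pullbackSpecIso_inv_fst]
    rfl
  refine ⟨e.hom ≫ M, inferInstance, ?_, ?_, ?_⟩
  · rw [Category.assoc, pullback.lift_fst, reassoc_of% h1]
  · rw [Category.assoc, pullback.lift_snd, reassoc_of% h2]
  · rw [Scheme.Hom.comp_base, TopCat.coe_comp, Set.range_comp, Set.range_eq_univ.2 e.hom.surjective,
      Set.image_univ]
    exact Scheme.Pullback.range_map _ _ _ _ _ _ _ _ _

/-- The closure of the generic fibre over a model flattens a universally open morphism, chart by chart. -/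
theorem flattened_of_good {K : Type u} [Field K] {X Y P : Scheme.{u}} (f : X ⟶ Y) [UniversallyOpen f]
    (q : P ⟶ Y) (η : Spec (CommRingCat.of K) ⟶ P) [QuasiCompact η]
    (hloc : ∀ z : ↥(pullback f q), ∃ (R : CommRingCat.{u}) (_ : Algebra R K) (k : Spec R ⟶ Y) (_ : IsOpenImmersion k)
      (B : CommRingCat.{u}) (_ : Algebra R B) (b : Spec B ⟶ X) (_ : IsOpenImmersion b)
      (A : Subalgebra (R : Type u) K) (a : Spec (CommRingCat.of A) ⟶ P) (_ : IsOpenImmersion a),
      b ≫ f = Spec.map (CommRingCat.ofHom (algebraMap R B)) ≫ k ∧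
      a ≫ q = Spec.map (CommRingCat.ofHom (algebraMap R A)) ≫ k ∧
      Spec.map (CommRingCat.ofHom A.val.toRingHom) ≫ a = η ∧
      pullback.fst f q z ∈ Set.range b ∧ pullback.snd f q z ∈ Set.range a ∧ FlatClosure.Good B A) :
    Flattened (pullback.snd f q) := by
  let ξ := η ≫ q
  let ζ : pullback f ξ ⟶ pullback f q :=
    pullback.lift (pullback.fst f ξ) (pullback.snd f ξ ≫ η) (by rw [pullback.condition, Category.assoc])
  have hζ : IsPullback ζ (pullback.snd f ξ) (pullback.snd f q) η := by
    refine IsPullback.of_right ?_ (pullback.lift_snd _ _ _) (IsPullback.of_hasPullback f q)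
    rw [pullback.lift_fst]
    exact IsPullback.of_hasPullback f ξ
  haveI : QuasiCompact ζ := MorphismProperty.of_isPullback hζ.flip inferInstance
  -- data at a point
  have key : ∀ z : ↥(pullback f q), ∃ (W Q : Scheme.{u}) (w : W ⟶ pullback f q) (i : Q ⟶ W) (l : Q ⟶ ζ.image),
      IsOpenImmersion w ∧ z ∈ Set.range w ∧ IsPullback i l w ζ.imageι ∧ LocallyOfFinitePresentation i ∧
      Surjective i ∧ Flat (i ≫ w ≫ pullback.snd f q) := by
    intro z
    obtain ⟨R, _, k, _, B, _, b, _, A, a, _, hb, ha, hη, hzb, hza, hgood⟩ := hloc z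
    obtain ⟨w, hw, hw1, hw2, hwr⟩ := exists_chart (R := R) (A := A) (B := B) f q k b a hb ha
    let t := Spec.map (CommRingCat.ofHom (FlatClosure.toK B A).toRingHom)
    -- the preimage in the generic fibre
    let wK : Spec (CommRingCat.of (K ⊗[(R : Type u)] B)) ⟶ pullback f ξ := pullback.lift (t ≫ w ≫ pullback.fst f q)
      (Spec.map (CommRingCat.ofHom (algebraMap K (K ⊗[(R : Type u)] B)))) (by
        simp only [Category.assoc, pullback.condition, ξ]
        rw [reassoc_of% hw2, ← hη]
        simp only [t, Category.assoc, ← Spec.map_comp_assoc]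
        congr 2)
    have hsq : t ≫ w = wK ≫ ζ := by
      apply pullback.hom_ext
      · rw [Category.assoc, Category.assoc, pullback.lift_fst, pullback.lift_fst]
      · rw [Category.assoc, Category.assoc, pullback.lift_snd, pullback.lift_snd_assoc, hw2, ← hη]
        simp only [t, ← Spec.map_comp_assoc]
        rfl
    have hwK1 : wK ≫ pullback.fst f ξ =
        Spec.map (CommRingCat.ofHom (Algebra.TensorProduct.includeRight (R := R) (A := K) (B := B)).toRingHom) ≫ b := by
      rw [pullback.lift_fst, hw1, ← Spec.map_comp_assoc]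
      congr 2
    have hpb : IsPullback t wK w ζ := by
      let kK := Spec.map (CommRingCat.ofHom (algebraMap R K))
      have hkK : 𝟙 _ ≫ ξ = kK ≫ k := by
        rw [Category.id_comp]
        show η ≫ q = _
        rw [← hη, Category.assoc, ha, ← Spec.map_comp_assoc]
        rfl
      haveI : IsOpenImmersion (𝟙 (Spec (CommRingCat.of K))) := inferInstance
      obtain ⟨v, hv, hv1, hv2, hvr⟩ := exists_chart (R := R) (A := K) (B := B) f ξ k b (𝟙 _) hb hkK
      have hvw : v = wK := pullback.hom_ext (by rw [hwK1, hv1])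
        (by rw [hv2, Category.comp_id, pullback.lift_snd])
      haveI : IsOpenImmersion wK := hvw ▸ hv
      refine IsOpenImmersion.isPullback t wK w ζ hsq.symm (TopologicalSpace.Opens.ext ?_)
      show ζ ⁻¹' Set.range w = Set.range wK
      rw [← hvw, hvr, hwr, Set.preimage_inter, ← Set.preimage_comp, ← Set.preimage_comp]
      ext y
      have e1 : (pullback.fst f q) (ζ y) = pullback.fst f ξ y := by rw [← Scheme.Hom.comp_apply, pullback.lift_fst]
      have e2 : (pullback.snd f q) (ζ y) ∈ Set.range a := by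
        refine ⟨Spec.map (CommRingCat.ofHom A.val.toRingHom) (pullback.snd f ξ y), ?_⟩
        rw [← Scheme.Hom.comp_apply, hη, ← Scheme.Hom.comp_apply, ← Scheme.Hom.comp_apply, pullback.lift_snd]
      simp only [Set.mem_inter_iff, Set.mem_preimage, Function.comp_apply, e1]
      exact ⟨fun h => ⟨h.1, ⟨_, rfl⟩⟩, fun h => ⟨h.1, e2⟩⟩
    have hker : (ζ.ker).comap w = t.ker := Scheme.IdealSheafData.ext (funext fun V => by
      rw [Scheme.IdealSheafData.ideal_comap_of_isOpenImmersion]
      exact (Scheme.ker_ideal_of_isPullback_of_isOpenImmersion ζ t wK w hpb V).symm)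
    let J := RingHom.ker (FlatClosure.toK B A).toRingHom
    let i : Spec (CommRingCat.of ((A ⊗[(R : Type u)] B) ⧸ J)) ⟶ Spec (CommRingCat.of (A ⊗[(R : Type u)] B)) :=
      Spec.map (CommRingCat.ofHom (Ideal.Quotient.mk J))
    haveI : IsClosedImmersion i := IsClosedImmersion.spec_of_surjective _ Ideal.Quotient.mk_surjective
    have hiker : i.ker = t.ker := ker_SpecMap_eq _ _ (by rw [CommRingCat.hom_ofHom, Ideal.mk_ker]; rfl)
    have hζker : ζ.imageι.ker = ζ.ker := Scheme.IdealSheafData.ker_subschemeι _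
    have hle : ζ.imageι.ker ≤ (i ≫ w).ker := by
      rw [Scheme.Hom.ker_comp, hζker, Scheme.IdealSheafData.le_map_iff_comap_le, hker, hiker]
    let l := IsClosedImmersion.lift ζ.imageι (i ≫ w) hle
    have hl : l ≫ ζ.imageι = i ≫ w := IsClosedImmersion.lift_fac _ _ _
    have hiw : IsPullback i l w ζ.imageι :=
      isPullback_of_isClosedImmersion i ζ.imageι l w hl.symm (by rw [hζker, hker, hiker])
    have hopen : IsOpenMap (PrimeSpectrum.comap (algebraMap A (A ⊗[(R : Type u)] B))) := by
      have h1 : IsOpenMap (pullback.snd f q) := (pullback.snd f q).isOpenMap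
      have h2 : IsOpenMap (fun y => (w ≫ pullback.snd f q) y) := h1.comp w.isOpenEmbedding.isOpenMap
      rw [hw2] at h2
      intro U hU
      have h3 := (h2 U hU).preimage a.continuous
      rw [← Set.preimage_image_eq (PrimeSpectrum.comap (algebraMap A (A ⊗[(R : Type u)] B)) '' U)
        a.isOpenEmbedding.injective]
      show IsOpen (a ⁻¹' (a '' (PrimeSpectrum.comap (algebraMap A (A ⊗[(R : Type u)] B)) '' U)))
      rw [← Set.image_comp]
      exact h3
    refine ⟨_, _, w, i, l, hw, by rw [hwr]; exact ⟨hzb, hza⟩, hiw, ?_, ⟨fun y => ?_⟩, ?_⟩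
    · exact (HasRingHomProperty.Spec_iff (P := @LocallyOfFinitePresentation)).2
        (RingHom.FinitePresentation.of_surjective _ Ideal.Quotient.mk_surjective (by
          rw [CommRingCat.hom_ofHom, Ideal.mk_ker]; exact hgood.1))
    · have hy : J ≤ (y : PrimeSpectrum (A ⊗[(R : Type u)] B)).asIdeal := fun x hx =>
        nilradical_le_prime _ (FlatClosure.ker_le_nilradical A hopen hx)
      exact mem_range_SpecMap_mk J y hy
    · rw [hw2, ← Category.assoc]
      haveI : Flat (i ≫ Spec.map (CommRingCat.ofHom (algebraMap A (A ⊗[(R : Type u)] B)))) :=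
        flat_mk_comp A J hgood.2
      infer_instance
  choose W Q w i l hw hzw hiw hlfp hsurj hflat using key
  haveI := hw
  refine ⟨ζ.image, ζ.imageι, inferInstance, ?_, ⟨fun z => ?_⟩, ?_⟩
  · refine IsZariskiLocalAtTarget.of_iSup_eq_top (P := @LocallyOfFinitePresentation) (fun z => (w z).opensRange)
      (top_le_iff.1 fun z _ => TopologicalSpace.Opens.mem_iSup.2 ⟨z, hzw z⟩) fun z => ?_
    refine (MorphismProperty.arrow_mk_iso_iff @LocallyOfFinitePresentation
      (morphismRestrictOpensRange _ (w z))).2 ?_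
    exact Groth.Agent.MorLib.Desc.of_two @LocallyOfFinitePresentation (hiw z).flip (IsPullback.of_hasPullback _ _) (hlfp z)
  · obtain ⟨t, ht⟩ := hzw z
    obtain ⟨y, hy⟩ := (hsurj z).surj t
    exact ⟨l z y, by rw [← Scheme.Hom.comp_apply, ← (hiw z).w, Scheme.Hom.comp_apply, hy]; exact ht⟩
  · haveI : ∀ z, IsOpenImmersion (l z) := fun z => MorphismProperty.of_isPullback (hiw z) (hw z)
    refine IsZariskiLocalAtSource.of_iSup_eq_top (P := @Flat) (fun z => (l z).opensRange)
      (top_le_iff.1 fun y _ => TopologicalSpace.Opens.mem_iSup.2 ⟨ζ.imageι y, ?_⟩) fun z => ?_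
    · obtain ⟨t, ht⟩ := hzw (ζ.imageι y)
      obtain ⟨x, -, hx⟩ := Scheme.exists_preimage_of_isPullback (hiw (ζ.imageι y)) t y ht
      exact ⟨x, hx⟩
    · rw [← Scheme.Hom.isoOpensRange_inv_comp (l z), Category.assoc, ← Category.assoc (l z), ← (hiw z).w, Category.assoc]
      haveI := hflat z
      infer_instance

end Groth.Agent.SubtrRef
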