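import Groth.Agent.SubtrRef.ValSection
import Groth.Agent.EtRep9.SubtrusiveGeneral
import Groth.Agent.SGA1Q.SigmaFinite
import Mathlib.FieldTheory.IsAlgClosed.AlgebraicClosure

/-! Proper covers over which a finitely presented subtrusive morphism has sections locally. -/

set_option autoImplicit false
set_option backward.isDefEq.respectTransparency false
set_option backward.isDefEq.respectTransparency.types false
set_option linter.style.haveILetI false
universe u

open CategoryTheory CategoryTheory.Limits AlgebraicGeometry IsLocalRing Topology Groth.Agent.MorLib Groth.Agent.EtRep9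

noncomputable section

namespace Groth.Agent.SubtrRef

variable {X Y : Scheme.{u}} (f : X ⟶ Y)

/-- The morphism has sections locally over `q`. -/
def LocLifts {T : Scheme.{u}} (q : T ⟶ Y) : Prop :=
  ∀ z : T, ∃ (O : T.Opens) (l : (O : Scheme.{u}) ⟶ X), z ∈ O ∧ l ≫ f = O.ι ≫ q

theorem exists_valuation_lift [LocallyOfFiniteType f] (hf : Subtr.UnivSSubtrusive f) (K : Type u) [Field K]
    [IsAlgClosed K] (V : ValuationSubring K) (q : Spec (CommRingCat.of V) ⟶ Y) :
    ∃ l : Spec (CommRingCat.of V) ⟶ X, l ≫ f = q := by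
  haveI : LocallyOfFiniteType (pullback.snd f q) := MorphismProperty.pullback_snd _ _ inferInstance
  obtain ⟨s, hs⟩ := exists_section K V (pullback.snd f q)
    (MorphismProperty.of_isPullback (P := MorphismProperty.universally _) (IsPullback.of_hasPullback f q) hf)
  exact ⟨s ≫ pullback.fst f q, by rw [Category.assoc, pullback.condition, reassoc_of% hs]⟩

variable {f}

/-- Each valuation ring sees finitely many elements over which a lift exists. -/
theorem exists_lift_finset [LocallyOfFinitePresentation f] (hf : Subtr.UnivSSubtrusive f) {R : CommRingCat.{u}}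
    (q₀ : Spec R ⟶ Y) (K : Type u) [Field K] [IsAlgClosed K] [Algebra R K] (V : ValuationSubring K)
    (hV : Set.range (algebraMap R K) ⊆ V) : ∃ s : Finset K,
      (∃ l : Spec (CommRingCat.of (Algebra.adjoin (R : Type u) (s : Set K))) ⟶ X, l ≫ f =
        Spec.map (CommRingCat.ofHom (algebraMap R (Algebra.adjoin (R : Type u) (s : Set K)))) ≫ q₀) ∧
      (s : Set K) ⊆ V := by
  classical
  letI : Algebra R V := ((algebraMap R K).codRestrict V.toSubring fun x => hV ⟨x, rfl⟩).toAlgebra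
  let T := ValApprox.diagram R V
  haveI : ∀ i : (Finset V)ᵒᵖ, IsAffine (T.obj i) := fun i =>
    isAffine_Spec (CommRingCat.of (Algebra.adjoin (R : Type u) ((i.unop : Finset V) : Set V)))
  haveI : ∀ {i j : (Finset V)ᵒᵖ} (f : i ⟶ j), IsAffineHom (T.map f) := fun _ => isAffineHom_of_isAffine _
  obtain ⟨a, ha⟩ := exists_valuation_lift f hf K V
    ((Spec.map (CommRingCat.ofHom (algebraMap R V))) ≫ q₀)
  let t : T ⟶ (Functor.const _).obj Y :=
  { app := fun i =>
      Spec.map (CommRingCat.ofHom (algebraMap R (Algebra.adjoin (R : Type u) ((i.unop : Finset V) : Set V)))) ≫ q₀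
    naturality := fun l i φ => by
      refine Eq.trans ?_ (Category.comp_id _).symm
      show Spec.map _ ≫ Spec.map _ ≫ q₀ = _
      rw [← Spec.map_comp_assoc]; rfl }
  obtain ⟨n, g, -, hg⟩ := Scheme.exists_π_app_comp_eq_of_locallyOfFinitePresentation T t f
    (ValApprox.cone R V) (ValApprox.isLimit R V) a (by
      ext i : 2
      show Spec.map _ ≫ Spec.map _ ≫ q₀ = a ≫ f
      rw [ha, ← Spec.map_comp_assoc]; rfl)
  let ι : V →ₐ[(R : Type u)] K := { V.subtype with commutes' := fun _ => rfl }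
  let s : Finset K := (n.unop : Finset V).image ι
  let ρ : Algebra.adjoin (R : Type u) ((n.unop : Finset V) : Set V) →ₐ[(R : Type u)]
      Algebra.adjoin (R : Type u) (s : Set K) :=
    (ι.comp (Subalgebra.val _)).codRestrict _ fun x => by
      have h1 : ι (x : V) ∈ (Algebra.adjoin (R : Type u) ((n.unop : Finset V) : Set V)).map ι := ⟨_, x.2, rfl⟩
      rw [AlgHom.map_adjoin] at h1
      simpa [s] using h1
  refine ⟨s, ⟨Spec.map (CommRingCat.ofHom ρ.toRingHom) ≫ g, ?_⟩, ?_⟩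
  · rw [Category.assoc, hg]
    show Spec.map _ ≫ Spec.map _ ≫ q₀ = _
    rw [← Spec.map_comp_assoc]
    rfl
  · rintro _ hx
    obtain ⟨v, -, rfl⟩ := Finset.mem_image.1 hx
    exact v.2

/-- Finitely many elements suffice, over an algebraically closed field. -/
theorem exists_lift_cover [LocallyOfFinitePresentation f] (hf : Subtr.UnivSSubtrusive f) {R : CommRingCat.{u}}
    (q₀ : Spec R ⟶ Y) (K : Type u) [Field K] [IsAlgClosed K] [Algebra R K] :
    ∃ 𝓕 : Finset (Finset K), (∀ s ∈ 𝓕,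
      ∃ l : Spec (CommRingCat.of (Algebra.adjoin (R : Type u) (s : Set K))) ⟶ X, l ≫ f =
        Spec.map (CommRingCat.ofHom (algebraMap R (Algebra.adjoin (R : Type u) (s : Set K)))) ≫ q₀) ∧
      ∀ V : ValuationSubring K, Set.range (algebraMap R K) ⊆ V → ∃ s ∈ 𝓕, (s : Set K) ⊆ V := by
  obtain ⟨𝓕, h1, h2⟩ := exists_finite_cover R K
    {s | ∃ l : Spec (CommRingCat.of (Algebra.adjoin (R : Type u) (s : Set K))) ⟶ X, l ≫ f =
      Spec.map (CommRingCat.ofHom (algebraMap R (Algebra.adjoin (R : Type u) (s : Set K)))) ≫ q₀}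
    fun V hV => by
      obtain ⟨s, hl, hs⟩ := exists_lift_finset hf q₀ K V hV
      exact ⟨s, hl, hs⟩
  exact ⟨𝓕, h1, h2⟩

/-- Over an affine base, through each point passes a proper finitely presented scheme with local lifts. -/
theorem exists_lift_model {R : CommRingCat.{u}} {X : Scheme.{u}} (f : X ⟶ Spec R) [LocallyOfFinitePresentation f]
    (hf : Subtr.UnivSSubtrusive f) (x : PrimeSpectrum R) :
    ∃ (P : Scheme.{u}) (q : P ⟶ Spec R), (IsProper q ∧ LocallyOfFinitePresentation q) ∧ x ∈ Set.range q ∧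
      LocLifts f q := by
  classical
  let k := FractionRing (R ⧸ x.asIdeal)
  let K := AlgebraicClosure k
  letI : Algebra R K :=
    ((algebraMap k K).comp ((algebraMap (R ⧸ x.asIdeal) k).comp (Ideal.Quotient.mk x.asIdeal))).toAlgebra
  obtain ⟨𝓕, h𝓕, hcov⟩ := exists_lift_cover hf (𝟙 (Spec R)) K
  obtain ⟨P, fP, ⟨hP, Q, fQ, i, hfQ, hfQ', hi, hif⟩, ⟨z₀, hz₀⟩, hloc⟩ := exists_val_model R K 𝓕 hcov
  have hx : fP z₀ = x := hz₀.trans (PrimeSpectrum.ext (by
    show (maximalIdeal K).comap (algebraMap R K) = x.asIdeal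
    rw [maximalIdeal_eq_bot, ← RingHom.ker_eq_comap_bot]
    show RingHom.ker ((algebraMap k K).comp ((algebraMap (R ⧸ x.asIdeal) k).comp (Ideal.Quotient.mk x.asIdeal))) = _
    rw [RingHom.ker_comp_of_injective _ (algebraMap k K).injective,
      RingHom.ker_comp_of_injective _ (IsFractionRing.injective _ _), Ideal.mk_ker]))
  haveI := hP; haveI := hfQ; haveI := hfQ'; haveI := hi
  haveI : CompactSpace Q := QuasiCompact.compactSpace_of_compactSpace fQ
  haveI : QuasiSeparatedSpace Q := quasiSeparatedSpace_of_quasiSeparated fQ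
  obtain ⟨I, _, _, _, F, c, hc, hobj, ⟨e⟩⟩ := Groth.Agent.S7379.result i
  haveI : IsConnected Iᵒᵖ := IsCofiltered.isConnected _
  let T := F ⋙ Over.forget Q
  let cT : Cone T := (Over.forget Q).mapCone c
  have hcT : IsLimit cT := isLimitOfPreserves (Over.forget Q) hc
  haveI : ∀ k, IsClosedImmersion (F.obj k).hom := fun k => (hobj k).1
  haveI : ∀ {k l : Iᵒᵖ} (φ : k ⟶ l), IsAffineHom (T.map φ) := fun {k l} φ => by
    haveI : IsClosedImmersion ((F.map φ).left ≫ (F.obj l).hom) := by rw [Over.w]; infer_instance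
    haveI := IsClosedImmersion.of_comp (F.map φ).left (F.obj l).hom
    exact inferInstanceAs (IsAffineHom (F.map φ).left)
  haveI : ∀ k, CompactSpace (T.obj k) := fun k => QuasiCompact.compactSpace_of_compactSpace (F.obj k).hom
  let J : ∀ k, T.obj k ⟶ Spec R := fun k => (F.obj k).hom ≫ fQ
  have hJ : ∀ {l k : Iᵒᵖ} (φ : l ⟶ k), T.map φ ≫ J k = J l := fun {l k} φ => Over.w_assoc (F.map φ) fQ
  have hjl : ∀ k, cT.π.app k ≫ J k = c.pt.hom ≫ fQ := fun k => Over.w_assoc (c.π.app k) fQ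
  have he : e.inv.left ≫ c.pt.hom ≫ fQ = fP := by rw [Over.w_assoc e.inv]; exact hif
  have he' : e.hom.left ≫ fP = c.pt.hom ≫ fQ := by rw [← hif]; exact Over.w_assoc e.hom fQ
  have hnb : ∀ z : cT.pt, ∃ (k : Iᵒᵖ) (V : (T.obj k).Opens) (l : (V : Scheme.{u}) ⟶ X), cT.π.app k z ∈ V ∧
      l ≫ f = V.ι ≫ J k := by
    intro z
    obtain ⟨s, O, hs, hO, m, hm⟩ := hloc (e.hom.left z)
    obtain ⟨l, hl⟩ := h𝓕 s hs
    replace hl := hl.trans (Category.comp_id _)
    obtain ⟨_, ⟨_, ⟨k, V, hV, rfl⟩, rfl⟩, hzV, hVO⟩ :=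
      (isBasis_preimage_isAffineOpen T cT hcT).exists_subset_of_mem_open (show z ∈ e.hom.left ⁻¹ᵁ O from hO)
        (e.hom.left ⁻¹ᵁ O).2
    haveI : IsAffine (V : Scheme.{u}) := hV
    have hX : IsPullback (cT.π.app k ∣_ V) (cT.π.app k ⁻¹ᵁ V).ι V.ι (cT.π.app k) :=
      isPullback_morphismRestrict (cT.π.app k) V
    let a : (cT.π.app k ⁻¹ᵁ V : Scheme.{u}) ⟶ X :=
      cT.pt.homOfLE (SetLike.coe_subset_coe.1 hVO) ≫ (e.hom.left ∣_ O) ≫ m ≫ l
    have ha : a ≫ f = (cT.π.app k ⁻¹ᵁ V).ι ≫ c.pt.hom ≫ fQ := by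
      simp only [a, Category.assoc]
      rw [hl, hm, morphismRestrict_ι_assoc, Scheme.homOfLE_ι_assoc, he']
    let T' := BC.diag T V.ι
    haveI : ∀ {a b : Over k} (φ : a ⟶ b), IsAffineHom (T'.map φ) := fun φ => BC.isAffineHom_map T V.ι φ
    haveI : ∀ b, CompactSpace (T'.obj b) := fun b => BC.compactSpace_obj T V.ι b
    haveI : ∀ b, QuasiSeparatedSpace (T'.obj b) := fun b => BC.quasiSeparatedSpace_obj T V.ι b
    let t : T' ⟶ (Functor.const _).obj (Spec R) :=
    { app := fun b => pullback.snd V.ι (T.map b.hom) ≫ J b.left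
      naturality := fun b b' φ => by
        refine Eq.trans ?_ (Category.comp_id _).symm
        show T'.map φ ≫ pullback.snd V.ι (T.map b'.hom) ≫ J b'.left = _
        rw [reassoc_of% (BC.map_snd T V.ι φ), hJ] }
    obtain ⟨b, g, -, hg⟩ := Scheme.exists_π_app_comp_eq_of_locallyOfFinitePresentation T' t f
      (BC.cone T V.ι hX) (BC.isLimitCone T V.ι hX hcT) a (by
        ext b : 2
        show (BC.cone T V.ι hX).π.app b ≫ pullback.snd V.ι (T.map b.hom) ≫ J b.left = a ≫ f
        rw [show (BC.cone T V.ι hX).π.app b = BC.proj T V.ι hX b from rfl, BC.proj_snd_assoc, hjl, ha])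
    let w : pullback V.ι (T.map b.hom) ⟶ T.obj b.left := pullback.snd _ _
    refine ⟨b.left, w.opensRange, w.isoOpensRange.inv ≫ g, ⟨BC.proj T V.ι hX b ⟨z, hzV⟩, ?_⟩, ?_⟩
    · show w _ = _
      rw [← Scheme.Hom.comp_apply, BC.proj_snd]
      rfl
    · rw [Category.assoc, hg, Iso.inv_comp_eq, Scheme.Hom.isoOpensRange_hom_ι_assoc]
  choose k V l hzV hl using hnb
  haveI : CompactSpace (cT.pt : Scheme.{u}) := by
    have h : CompactSpace P := QuasiCompact.compactSpace_of_compactSpace fP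
    exact @Homeomorph.compactSpace _ _ _ _ h e.inv.left.homeomorph
  obtain ⟨t, ht⟩ := isCompact_univ.elim_finite_subcover
    (fun z : cT.pt => ((cT.π.app (k z) ⁻¹ᵁ V z : cT.pt.Opens) : Set cT.pt))
    (fun z => (cT.π.app (k z) ⁻¹ᵁ V z).2) fun z _ => Set.mem_iUnion.2 ⟨z, hzV z⟩
  haveI : Nonempty Iᵒᵖ := IsCofiltered.nonempty
  obtain ⟨m, hm⟩ := IsCofiltered.inf_objs_exists (t.image k)
  let φ : ∀ z ∈ t, m ⟶ k z := fun z hz => (hm (Finset.mem_image_of_mem k hz)).some
  let W : (T.obj m).Opens := ⨆ z : t, T.map (φ z.1 z.2) ⁻¹ᵁ V z.1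
  have hW : cT.π.app m ⁻¹ᵁ W = ⊤ := top_le_iff.1 fun y _ => by
    obtain ⟨z, hz, hy⟩ := Set.mem_iUnion₂.1 (ht (Set.mem_univ y))
    show cT.π.app m y ∈ W
    refine TopologicalSpace.Opens.mem_iSup.2 ⟨⟨z, hz⟩, ?_⟩
    show T.map (φ z hz) (cT.π.app m y) ∈ V z
    rw [← Scheme.Hom.comp_apply, cT.w]
    exact hy
  obtain ⟨n, ψ, hn⟩ := exists_map_eq_top T cT hcT W hW
  haveI : LocallyOfFinitePresentation (F.obj n).hom := (hobj n).2
  refine ⟨T.obj n, J n, ⟨inferInstanceAs (IsProper ((F.obj n).hom ≫ fQ)),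
    inferInstanceAs (LocallyOfFinitePresentation ((F.obj n).hom ≫ fQ))⟩,
    ⟨cT.π.app n (e.inv.left z₀), ?_⟩, fun y => ?_⟩
  · have h1 : J n (cT.π.app n (e.inv.left z₀)) = fP z₀ := by
      rw [← he, ← hjl n]
      rfl
    exact h1.trans hx
  · obtain ⟨z, hz⟩ := TopologicalSpace.Opens.mem_iSup.1 (hn.ge (show y ∈ (⊤ : (T.obj n).Opens) from trivial) :
      T.map ψ y ∈ W)
    let χ := ψ ≫ φ z.1 z.2
    refine ⟨T.map χ ⁻¹ᵁ V z.1, (T.map χ ∣_ V z.1) ≫ l z.1, ?_, ?_⟩
    · show T.map χ y ∈ V z.1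
      rw [T.map_comp, Scheme.Hom.comp_apply]
      exact hz
    · rw [Category.assoc, hl, morphismRestrict_ι_assoc, hJ]

/-- A finite disjoint union of proper schemes is proper. -/
theorem isProper_sigmaDesc' {σ : Type u} [Finite σ] {Y : Scheme.{u}} {P : σ → Scheme.{u}} (q : ∀ i, P i ⟶ Y)
    [∀ i, IsProper (q i)] : IsProper (Limits.Sigma.desc q) := by
  have e : Limits.Sigma.desc q = Limits.Sigma.map q ≫ Limits.Sigma.desc fun _ : σ => 𝟙 Y := by
    refine Limits.Sigma.hom_ext _ _ fun i => ?_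
    rw [Limits.Sigma.ι_desc, Limits.Sigma.ι_map_assoc, Limits.Sigma.ι_desc, Category.comp_id]
  haveI := SGA1Q.isFinite_sigmaDesc (fun _ : σ => 𝟙 Y) fun _ => inferInstance
  haveI := ModPairLib.isProper_sigmaMap q
  rw [e]
  infer_instance

theorem locLifts_desc {σ : Type u} {P : σ → Scheme.{u}} (q : ∀ i, P i ⟶ Y) (h : ∀ i, LocLifts f (q i)) :
    LocLifts f (Limits.Sigma.desc q) := by
  intro z
  obtain ⟨i, w, rfl⟩ := ModPairLib.sigma_surj P z
  obtain ⟨O, l, hw, hl⟩ := h i w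
  let j : (O : Scheme.{u}) ⟶ ∐ P := O.ι ≫ Limits.Sigma.ι P i
  refine ⟨j.opensRange, j.isoOpensRange.inv ≫ l, ⟨⟨w, hw⟩, Scheme.Hom.comp_apply _ _ _⟩, ?_⟩
  rw [Category.assoc, hl, Iso.inv_comp_eq, Scheme.Hom.isoOpensRange_hom_ι_assoc, Category.assoc, Limits.Sigma.ι_desc]

/-- Over an affine base a proper surjective morphism of finite presentation admits local lifts. -/
theorem exists_proper_lifts_affine {R : CommRingCat.{u}} {X : Scheme.{u}} (f : X ⟶ Spec R)
    [LocallyOfFinitePresentation f] (hf : Subtr.UnivSSubtrusive f) :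
    ∃ (P : Scheme.{u}) (q : P ⟶ Spec R), IsProper q ∧ Surjective q ∧ LocallyOfFinitePresentation q ∧
      LocLifts f q := by
  classical
  choose P φ hφ hmem hloc using fun x : PrimeSpectrum R => exists_lift_model f hf x
  haveI := fun x => (hφ x).1
  haveI := fun x => (hφ x).2
  have hopen : ∀ x, IsOpen ((WithTopology.ofTopology (t := constructibleTopology (Spec R))) ⁻¹'
      (Set.range (φ x)) : Set (WithConstructibleTopology (Spec R))) := fun x => by
    rw [WithConstructibleTopology.isOpen_iff]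
    have h1 : IsConstructible (Set.range (φ x)) := by
      rw [← Set.image_univ]
      exact (φ x).isConstructible_image IsConstructible.univ
    have h2 := IsCompact.isOpen_constructibleTopology_of_isClosed
      (Groth.Agent.IsoNatLib.isCompact_of_isConstructible h1.compl) (φ x).isClosedMap.isClosed_range
    convert h2 using 1
    ext; simp
  obtain ⟨t, ht⟩ := isCompact_univ.elim_finite_subcover _ hopen
    fun a _ => Set.mem_iUnion.2 ⟨WithTopology.ofTopology a, hmem (WithTopology.ofTopology a)⟩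
  refine ⟨∐ fun x : t => P x.1, Limits.Sigma.desc fun x : t => φ x.1, isProper_sigmaDesc _, ⟨fun a => ?_⟩,
    IsZariskiLocalAtSource.sigmaDesc (P := @LocallyOfFinitePresentation) fun x => (hφ x.1).2,
    locLifts_desc (fun x : t => φ x.1) fun x => hloc x.1⟩
  obtain ⟨x, hx, w, hw⟩ := Set.mem_iUnion₂.1 (ht (Set.mem_univ (WithTopology.toTopology _ a)))
  exact ⟨Limits.Sigma.ι (fun x : t => P x.1) ⟨x, hx⟩ w, by
    rw [← Scheme.Hom.comp_apply, Limits.Sigma.ι_desc]; exact hw⟩

/-- Over a noetherian base a proper surjective morphism admits local lifts. -/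
theorem exists_proper_lifts_noetherian [IsNoetherian Y] [LocallyOfFinitePresentation f]
    (hf : Subtr.UnivSSubtrusive f) :
    ∃ (P : Scheme.{u}) (q : P ⟶ Y), IsProper q ∧ Surjective q ∧ LocallyOfFinitePresentation q ∧
      LocLifts f q := by
  classical
  have hone : ∀ Z : irreducibleComponents Y, ∃ (P : Scheme.{u}) (q : P ⟶ Y), IsProper q ∧
      Z.1 ⊆ Set.range q ∧ LocLifts f q := by
    intro Z
    obtain ⟨x, hx⟩ : ∃ x, IsGenericPoint x Z.1 :=
      QuasiSober.sober Z.2.1 (isClosed_of_mem_irreducibleComponents _ Z.2)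
    let K := AlgebraicClosure (Y.residueField x)
    let ξ : Spec (CommRingCat.of K) ⟶ Y :=
      Spec.map (CommRingCat.ofHom (algebraMap (Y.residueField x) K)) ≫ Y.fromSpecResidueField x
    have hξx : ξ (closedPoint K) = x := by
      rw [Scheme.Hom.comp_apply]
      exact Scheme.fromSpecResidueField_apply _ _
    let 𝒰 := Y.affineCover.finiteSubcover
    let κ := {j : 𝒰.I₀ // x ∈ Set.range (𝒰.f j)}
    haveI : Finite κ := Subtype.finite
    let R : κ → CommRingCat.{u} := fun j => Γ(𝒰.X j.1, ⊤)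
    haveI : ∀ j : 𝒰.I₀, IsAffine (𝒰.X j) := fun j => by dsimp [𝒰]; infer_instance
    let k : ∀ j : κ, Spec (R j) ⟶ Y := fun j => (𝒰.X j.1).isoSpec.inv ≫ 𝒰.f j.1
    have hr : ∀ j : κ, Set.range ξ ⊆ Set.range (k j) := fun j => by
      rintro _ ⟨z, rfl⟩
      rw [show z = closedPoint K from Subsingleton.elim _ _, hξx]
      obtain ⟨w, hw⟩ := j.2
      exact ⟨(𝒰.X j.1).isoSpec.hom w, by
        rw [← Scheme.Hom.comp_apply, Iso.hom_inv_id_assoc]; exact hw⟩
    letI : ∀ j : κ, Algebra (R j) K := fun j =>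
      (Spec.preimage (IsOpenImmersion.lift (k j) ξ (hr j))).hom.toAlgebra
    have hξ : ∀ j, Spec.map (CommRingCat.ofHom (algebraMap (R j) K)) ≫ k j = ξ := fun j => by
      show Spec.map (Spec.preimage (IsOpenImmersion.lift (k j) ξ (hr j))) ≫ k j = ξ
      rw [Spec.map_preimage, IsOpenImmersion.lift_fac]
    choose 𝓕 h𝓕 hcov using fun j : κ => exists_lift_cover hf (k j) K
    obtain ⟨P, q, ⟨hq, -⟩, ⟨z₀, hz₀⟩, hloc⟩ := exists_val_model' ξ R k hξ (fun y hy => by
      rw [hξx] at hy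
      obtain ⟨j, w, hw⟩ := 𝒰.exists_eq y
      refine ⟨⟨j, hy.mem_open (𝒰.f j).isOpenEmbedding.isOpen_range ⟨w, hw⟩⟩, (𝒰.X j).isoSpec.hom w, ?_⟩
      rw [← Scheme.Hom.comp_apply, Iso.hom_inv_id_assoc]
      exact hw) 𝓕 hcov
    haveI := hq
    refine ⟨P, q, hq, ?_, fun z => ?_⟩
    · rw [← hx.def]
      exact closure_minimal (Set.singleton_subset_iff.2 ⟨z₀, hz₀.trans hξx⟩) q.isClosedMap.isClosed_range
    · obtain ⟨j, s, O, hs, hz, m, hm⟩ := hloc z
      obtain ⟨l, hl⟩ := h𝓕 j s hs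
      exact ⟨O, m ≫ l, hz, by rw [Category.assoc, hl, hm]⟩
  choose P q hq hZ hloc using hone
  haveI := hq
  haveI : Finite (irreducibleComponents Y) := TopologicalSpace.NoetherianSpace.finite_irreducibleComponents.to_subtype
  haveI : IsProper (Limits.Sigma.desc q) := isProper_sigmaDesc' q
  refine ⟨∐ P, Limits.Sigma.desc q, inferInstance, ⟨fun a => ?_⟩, inferInstance, locLifts_desc q hloc⟩
  obtain ⟨w, hw⟩ := hZ ⟨irreducibleComponent a, irreducibleComponent_mem_irreducibleComponents a⟩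
    mem_irreducibleComponent
  exact ⟨Limits.Sigma.ι P _ w, by rw [← Scheme.Hom.comp_apply, Limits.Sigma.ι_desc]; exact hw⟩

end Groth.Agent.SubtrRef
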