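import Groth.Agent.Jacobson.FppfDescent
import Groth.Prelude.Def_W4c2submetdescSubtr
import Mathlib.FieldTheory.IsAlgClosed.Basic
import Mathlib.AlgebraicGeometry.Morphisms.FiniteType

/-! Morphisms of finite type lifting a specialization have sections over valuation rings with algebraically closed
fraction field. -/

set_option autoImplicit false
set_option backward.isDefEq.respectTransparency false
set_option backward.isDefEq.respectTransparency.types false
set_option linter.style.haveILetI false
universe u

open CategoryTheory CategoryTheory.Limits AlgebraicGeometry IsLocalRing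

noncomputable section

namespace Groth.Agent.SubtrRef

/-- An algebra of finite type with a generisation over the generic point of a point over the closed point has a
point with values in the valuation ring. -/
theorem exists_algHom (K : Type u) [Field K] [IsAlgClosed K] (V : ValuationSubring K) (B : Type u) [CommRing B]
    [Algebra V B] [Algebra.FiniteType V B] (P Q : Ideal B) [P.IsPrime] [Q.IsPrime] (hPQ : P ≤ Q)
    (hP : P.comap (algebraMap V B) = ⊥) (hQ : Q.comap (algebraMap V B) = maximalIdeal V) :
    Nonempty (B →ₐ[V] V) := by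
  let R := B ⧸ P
  haveI : FaithfulSMul V R := (faithfulSMul_iff_algebraMap_injective V R).2 (by
    rw [injective_iff_map_eq_zero]
    intro v hv
    have hv' : v ∈ P.comap (algebraMap V B) := Ideal.mem_comap.2 (Ideal.Quotient.eq_zero_iff_mem.1 hv)
    rwa [hP, Ideal.mem_bot] at hv')
  haveI : Algebra.FiniteType V R :=
    Algebra.FiniteType.of_surjective (Ideal.Quotient.mkₐ V P) Ideal.Quotient.mk_surjective
  have hne : (maximalIdeal V).map (algebraMap V R) ≠ ⊤ := by
    intro h
    have hle : (maximalIdeal V).map (algebraMap V R) ≤ Q.map (Ideal.Quotient.mk P) := by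
      refine Ideal.map_le_iff_le_comap.2 fun v hv => ?_
      rw [← hQ] at hv
      exact Ideal.mem_map_of_mem _ hv
    rw [h, top_le_iff] at hle
    haveI : (Q.map (Ideal.Quotient.mk P)).IsPrime :=
      Ideal.map_isPrime_of_surjective Ideal.Quotient.mk_surjective (by rwa [Ideal.mk_ker])
    exact Ideal.IsPrime.ne_top ‹_› hle
  obtain ⟨L, _, _, ρ, hinj, halg, c, hc, hker, hmc⟩ := Jacobson.exists_algebraic_prime V R hne
  letI : Algebra K L := (IsFractionRing.lift (A := V) (K := K) hinj).toAlgebra
  haveI : IsScalarTower V K L := IsScalarTower.of_algebraMap_eq fun v =>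
    (IsFractionRing.lift_algebraMap hinj v).symm
  have hmem : ∀ x, ∃ v : V, algebraMap V L v = ρ x := by
    intro x
    have hK : IsIntegral K (ρ x) := isAlgebraic_iff_isIntegral.1 ((halg x).extendScalars (IsFractionRing.injective V K))
    obtain ⟨k, hk⟩ : ρ x ∈ (algebraMap K L).range :=
      minpoly.mem_range_of_degree_eq_one K _ (IsAlgClosed.degree_eq_one_of_irreducible K (minpoly.irreducible hK))
    rcases V.mem_or_inv_mem k with hkV | hkV
    · exact ⟨⟨k, hkV⟩, by rw [← hk]; exact IsScalarTower.algebraMap_apply V K L ⟨k, hkV⟩⟩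
    · by_cases hk0 : k = 0
      · exact ⟨0, by rw [map_zero, ← hk, hk0, map_zero]⟩
      by_cases hu : IsUnit (⟨k⁻¹, hkV⟩ : V)
      · obtain ⟨w, hw⟩ := hu
        have h2 : (((w⁻¹ : Vˣ) : V) : K) = k := by
          have h3 : ((((w : V) * ((w⁻¹ : Vˣ) : V)) : V) : K) = 1 := by rw [Units.mul_inv]; rfl
          rw [hw] at h3
          have h4 : k⁻¹ * (((w⁻¹ : Vˣ) : V) : K) = 1 := h3
          rw [← inv_inv k]
          exact eq_inv_of_mul_eq_one_right h4
        exact ⟨((w⁻¹ : Vˣ) : V), by
          rw [← hk, IsScalarTower.algebraMap_apply V K L]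
          exact congrArg _ h2⟩
      · exfalso
        let a : V := ⟨k⁻¹, hkV⟩
        have ha : a ∈ maximalIdeal V := (mem_maximalIdeal a).2 hu
        have h1 : ρ (algebraMap V R a * x - 1) = 0 := by
          rw [map_sub, map_mul, ρ.commutes, map_one, ← hk, IsScalarTower.algebraMap_apply V K L, ← map_mul]
          show algebraMap K L (k⁻¹ * k) - 1 = 0
          rw [inv_mul_cancel₀ hk0, map_one, sub_self]
        have h2 : algebraMap V R a * x - 1 ∈ c := hker h1
        have h3 : algebraMap V R a * x ∈ c := c.mul_mem_right _ (hmc (Ideal.mem_map_of_mem _ ha))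
        exact hc.ne_top ((Ideal.eq_top_iff_one _).2 (by simpa using c.sub_mem h3 h2))
  choose σ hσ using hmem
  have hinj' : Function.Injective (algebraMap V L) := hinj
  let τ : R →ₐ[V] V :=
    { toFun := σ
      map_one' := hinj' (by rw [hσ, map_one, map_one])
      map_mul' := fun a b => hinj' (by rw [hσ, map_mul, map_mul, hσ, hσ])
      map_zero' := hinj' (by rw [hσ, map_zero, map_zero])
      map_add' := fun a b => hinj' (by rw [hσ, map_add, map_add, hσ, hσ])
      commutes' := fun v => hinj' (by rw [hσ, ρ.commutes]; rfl) }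
  exact ⟨τ.comp (Ideal.Quotient.mkₐ V P)⟩

/-- A morphism of finite type lifting pairs has a section over such a valuation ring. -/
theorem exists_section {X : Scheme.{u}} (K : Type u) [Field K] [IsAlgClosed K] (V : ValuationSubring K)
    (f : X ⟶ Spec (CommRingCat.of V)) [LocallyOfFiniteType f] (hf : Subtr.UnivSSubtrusive f) :
    ∃ s : Spec (CommRingCat.of V) ⟶ X, s ≫ f = 𝟙 _ := by
  obtain ⟨x, x', hxx, hx, hx'⟩ := hf _ _ _ IsPullback.of_id_snd
    (show (⊥ : PrimeSpectrum V) ⤳ closedPoint V from specializes_closedPoint _)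
  obtain ⟨U, hU, hxU⟩ : ∃ U : X.Opens, IsAffineOpen U ∧ x ∈ U := by
    obtain ⟨_, ⟨U, hU, rfl⟩, hxU, -⟩ :=
      X.isBasis_affineOpens.exists_subset_of_mem_open (Set.mem_univ x) isOpen_univ
    exact ⟨U, hU, hxU⟩
  have hx'U : x' ∈ U := hxx.mem_open U.2 hxU
  let j : Spec Γ(X, U) ⟶ X := hU.fromSpec
  obtain ⟨y, hy⟩ : x ∈ Set.range j := by rw [hU.range_fromSpec]; exact hxU
  obtain ⟨y', hy'⟩ : x' ∈ Set.range j := by rw [hU.range_fromSpec]; exact hx'U
  have hyy : y' ⤳ y := j.isOpenEmbedding.isInducing.specializes_iff.1 (by rw [hy, hy']; exact hxx)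
  let φ : CommRingCat.of V ⟶ Γ(X, U) := Spec.preimage (j ≫ f)
  have hφ : Spec.map φ = j ≫ f := Spec.map_preimage _
  haveI : LocallyOfFiniteType (Spec.map φ) := by rw [hφ]; infer_instance
  have hft : φ.hom.FiniteType := (HasRingHomProperty.Spec_iff (P := @LocallyOfFiniteType)).1 inferInstance
  letI : Algebra V Γ(X, U) := φ.hom.toAlgebra
  haveI : Algebra.FiniteType V Γ(X, U) := hft
  obtain ⟨τ⟩ := exists_algHom K V Γ(X, U) (y' : PrimeSpectrum Γ(X, U)).asIdeal (y : PrimeSpectrum Γ(X, U)).asIdeal
    ((PrimeSpectrum.le_iff_specializes y' y).2 hyy)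
    (by
      have e : Spec.map φ y' = (⊥ : PrimeSpectrum V) := by rw [hφ, Scheme.Hom.comp_apply, hy']; exact hx'
      exact congrArg PrimeSpectrum.asIdeal e)
    (by
      have e : Spec.map φ y = closedPoint V := by rw [hφ, Scheme.Hom.comp_apply, hy]; exact hx
      exact congrArg PrimeSpectrum.asIdeal e)
  refine ⟨Spec.map (CommRingCat.ofHom τ.toRingHom) ≫ j, ?_⟩
  rw [Category.assoc, ← hφ, ← Spec.map_comp, ← Spec.map_id]
  congr 1
  ext v
  exact congrArg Subtype.val (τ.commutes v)

end Groth.Agent.SubtrRef
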